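import Groth.Agent.Lib.ProEt.EpsUnit
import Groth.Prelude.Def_EtModW
import Mathlib.Topology.LocallyConstant.Basic
import Mathlib.AlgebraicGeometry.Morphisms.Flat

/-!
Charts of locally constant sheaves of modules on the pro-etale site: sections as locally constant functions.
-/

set_option autoImplicit false
set_option linter.style.haveILetI false

universe u

open CategoryTheory CategoryTheory.Limits AlgebraicGeometry Opposite

noncomputable section

namespace Groth.Agent.Lib.ProEtLC.Chart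

set_option backward.isDefEq.respectTransparency.types false

open ProEt

attribute [local instance] ProEt.Continuity.epsCont

variable {Λ : Type (u + 1)} [CommRing Λ] {X : Scheme.{u}} (G : EtModW.ModP Λ X)

/-- Restriction of sections. -/
abbrev res {P Q : X.ProEt} (a : Q ⟶ P) : G.obj.obj (op P) →ₗ[Λ] G.obj.obj (op Q) :=
  (G.obj.map a.op).hom

lemma res_res {P Q R : X.ProEt} (a : Q ⟶ P) (b : R ⟶ Q) (y : G.obj.obj (op P)) :
    res G b (res G a y) = res G (b ≫ a) y := by
  change _ = (G.obj.map (b ≫ a).op).hom y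
  rw [op_comp, Functor.map_comp]
  rfl

lemma res_id {P : X.ProEt} (y : G.obj.obj (op P)) : res G (𝟙 P) y = y := by
  change (G.obj.map (𝟙 P).op).hom y = y
  rw [op_id, CategoryTheory.Functor.map_id]
  rfl

lemma isSheaf_forget :
    Presieve.IsSheaf (Scheme.ProEt.topology X) (G.obj ⋙ forget (ModuleCat.{u + 1} Λ)) :=
  (isSheaf_iff_isSheaf_of_type _ _).mp
    ((Presheaf.isSheaf_iff_isSheaf_forget _ G.obj (forget (ModuleCat.{u + 1} Λ))).mp G.property)

/-- Sections agreeing on a covering agree. -/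
lemma eq_of_cover {Q : X.ProEt} {ι : Type*} {V : ι → X.ProEt} {e : ∀ i, V i ⟶ Q}
    (hV : Sieve.ofArrows V e ∈ Scheme.ProEt.topology X Q) {y y' : G.obj.obj (op Q)}
    (h : ∀ i, res G (e i) y = res G (e i) y') : y = y' := by
  refine ((isSheaf_forget G).isSeparated _ hV).ext fun Z f hf => ?_
  obtain ⟨_, b, _, ⟨i⟩, rfl⟩ := hf
  change res G (b ≫ e i) y = res G (b ≫ e i) y'
  rw [← res_res, ← res_res, h]

/-- Open pieces covering an object form a covering. -/
lemma pieces_mem {Q : X.ProEt} {ι : Type*} (O : ι → Q.left.Opens) (hO : ∀ q, ∃ i, q ∈ O i) :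
    Sieve.ofArrows _ (fun i => Decomp.incl Q (O i)) ∈ Scheme.ProEt.topology X Q :=
  Continuity.ofArrows_mem_of_isOpenMap _ (fun i => (O i).ι.isOpenEmbedding.isOpenMap)
    (Set.eq_univ_of_forall fun q => by
      obtain ⟨i, hi⟩ := hO q
      exact Set.mem_iUnion.mpr ⟨i, ⟨q, hi⟩, rfl⟩)

/-- Sections agreeing on an open covering agree. -/
lemma eq_of_openCover {Q : X.ProEt} {ι : Type*} (O : ι → Q.left.Opens) (hO : ∀ q, ∃ i, q ∈ O i)
    {y y' : G.obj.obj (op Q)} (h : ∀ i, res G (Decomp.incl Q (O i)) y = res G (Decomp.incl Q (O i)) y') :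
    y = y' :=
  eq_of_cover G (pieces_mem O hO) h

lemma res_isEmpty {Z : X.ProEt} [IsEmpty Z.left] (y y' : G.obj.obj (op Z)) : y = y' :=
  ((isSheaf_forget G) ⊥ (Scheme.ProEt.bot_mem_topology Z)).isSeparatedFor.ext fun _ _ h => h.elim

/-- Sections glue along disjoint open pieces. -/
theorem exists_glue {Q : X.ProEt} {ι : Type*} (O : ι → Q.left.Opens) (hO : ∀ q, ∃ i, q ∈ O i)
    (hd : ∀ i j q, q ∈ O i → q ∈ O j → i = j) (t : ∀ i, G.obj.obj (op (Decomp.piece Q (O i)))) :
    ∃ y, ∀ i, res G (Decomp.incl Q (O i)) y = t i := by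
  obtain ⟨y, hy, -⟩ := (Presieve.isSheafFor_arrows_iff (G.obj ⋙ forget (ModuleCat.{u + 1} Λ)) _).mp
    ((Presieve.isSheafFor_iff_generate _).mpr (isSheaf_forget G _ (pieces_mem O hO))) t
    fun i j Z a b hab => by
      rcases eq_or_ne i j with rfl | hij
      · have : a = b := MorphismProperty.Over.Hom.ext
          ((cancel_mono (O i).ι).mp (congrArg (fun φ => φ.left) hab))
        rw [this]
      · haveI : IsEmpty Z.left := ⟨fun z => hij (hd i j (a.left.base z).1 (a.left.base z).2 (by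
          have h1 : (a ≫ Decomp.incl Q (O i)).left.base z = (b ≫ Decomp.incl Q (O j)).left.base z := by
            rw [hab]
          have h2 : ((a.left.base z).1 : ↥Q.left) = (b.left.base z).1 := h1
          rw [h2]
          exact (b.left.base z).2))⟩
        exact res_isEmpty G _ _
  exact ⟨y, hy⟩

omit G in
/-- Lifting to an open piece. -/
lemma exists_lift {Q W : X.ProEt} (O : Q.left.Opens) (r : W ⟶ Q) (h : ∀ x, r.left.base x ∈ O) :
    ∃ l : W ⟶ Decomp.piece Q O, l ≫ Decomp.incl Q O = r := by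
  let r' : W.left ⟶ Q.left := r.left
  have hr : Set.range r'.base ⊆ Set.range O.ι.base := by
    rw [Scheme.Opens.range_ι]
    rintro _ ⟨x, rfl⟩
    exact h x
  let ψ : W.left ⟶ O.toScheme := IsOpenImmersion.lift O.ι r' hr
  exact ⟨MorphismProperty.Over.homMk ψ
    ((IsOpenImmersion.lift_fac_assoc O.ι r' hr Q.hom).trans (MorphismProperty.Over.w r)),
    MorphismProperty.Over.Hom.ext (IsOpenImmersion.lift_fac O.ι r' hr)⟩

omit G in
/-- A weakly contractible affine object over a neighbourhood of a point. -/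
lemma exists_wc_at (Q : X.ProEt) (O : Q.left.Opens) {q : ↥Q.left} (hq : q ∈ O) :
    ∃ (W : X.ProEt) (_ : IsAffine W.left) (_ : EtPBC.IsWContractible ↥Γ(W.left, ⊤)) (r : W ⟶ Q)
      (x : ↥W.left), r.left.base x = q ∧ ∀ z, r.left.base z ∈ O := by
  obtain ⟨_, ⟨V, hV, rfl⟩, hqV, hVO⟩ :=
    Q.left.isBasis_affineOpens.exists_subset_of_mem_open hq O.2
  obtain ⟨W, r, hW, hwc, hr⟩ := Covers.exists_over_affineOpen Q hV
  obtain ⟨x, hx⟩ := hr.ge hqV
  exact ⟨W, hW, hwc, r, x, hx, fun z => hVO (hr.le ⟨z, rfl⟩)⟩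

variable {G} {P : X.ProEt} {M : Type (u + 1)} [AddCommGroup M] [Module Λ M]

/-- A chart over `P`: a module of sections which is locally everything and detects zero. -/
structure IsChart (G : EtModW.ModP Λ X) {P : X.ProEt} (φ : M →ₗ[Λ] G.obj.obj (op P)) : Prop where
  inj : ∀ (W : X.ProEt) [IsAffine W.left], EtPBC.IsWContractible ↥Γ(W.left, ⊤) → ∀ (a : W ⟶ P) (m : M),
    Nonempty ↥W.left → res G a (φ m) = 0 → m = 0
  surj : ∀ (W : X.ProEt) [IsAffine W.left], EtPBC.IsWContractible ↥Γ(W.left, ⊤) → ∀ (a : W ⟶ P)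
    (y : G.obj.obj (op W)) (w : ↥W.left), ∃ O : W.left.Opens, w ∈ O ∧ ∃ m : M,
      res G (Decomp.incl W O) y = res G (Decomp.incl W O ≫ a) (φ m)

variable {φ : M →ₗ[Λ] G.obj.obj (op P)}

lemma IsChart.restrict (h : IsChart G φ) {P' : X.ProEt} (b : P' ⟶ P) : IsChart G (res G b ∘ₗ φ) where
  inj W _ hW a m hne h0 := by
    refine h.inj W hW (a ≫ b) m hne ?_
    rw [← res_res]
    exact h0
  surj W _ hW a y w := by
    obtain ⟨O, hO, m, hm⟩ := h.surj W hW (a ≫ b) y w
    refine ⟨O, hO, m, hm.trans ?_⟩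
    rw [LinearMap.comp_apply, res_res, Category.assoc]

variable {Q : X.ProEt} (a : Q ⟶ P) (y : G.obj.obj (op Q))

variable (φ) in
/-- The value of a section at a point. -/
def HasVal (q : ↥Q.left) (m : M) : Prop :=
  ∃ (W : X.ProEt) (_ : IsAffine W.left) (_ : EtPBC.IsWContractible ↥Γ(W.left, ⊤)) (r : W ⟶ Q)
    (x : ↥W.left), r.left.base x = q ∧ res G r y = res G (r ≫ a) (φ m)

variable (h : IsChart G φ)
include h

lemma exists_hasVal (q : ↥Q.left) : ∃ m, HasVal φ a y q m := by
  obtain ⟨W, hW, hwc, r, x, hx, -⟩ := exists_wc_at Q ⊤ (q := q) trivial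
  haveI := hW
  obtain ⟨O, hO, m, hm⟩ := h.surj W hwc (r ≫ a) (res G r y) x
  obtain ⟨W', hW', hwc', r', x', hx', hr'⟩ := exists_wc_at W O hO
  obtain ⟨l, hl⟩ := exists_lift O r' hr'
  refine ⟨m, W', hW', hwc', r' ≫ r, x', ?_, ?_⟩
  · exact (congrArg r.left.base hx').trans hx
  · have h1 := congrArg (res G l) hm
    rw [res_res, res_res, res_res, ← Category.assoc, hl] at h1
    rw [h1, Category.assoc]

lemma hasVal_unique {q : ↥Q.left} {m₁ m₂ : M} (h₁ : HasVal φ a y q m₁) (h₂ : HasVal φ a y q m₂) :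
    m₁ = m₂ := by
  obtain ⟨W₁, _, -, r₁, x₁, hx₁, e₁⟩ := h₁
  obtain ⟨W₂, _, -, r₂, x₂, hx₂, e₂⟩ := h₂
  obtain ⟨R, hR, s₁, s₂, x, hwc, hs, -, -⟩ := EpsUnit.exists_common r₁ r₂ x₁ x₂ (hx₁.trans hx₂.symm)
  haveI := hR
  have k₁ := congrArg (res G s₁) e₁
  have k₂ := congrArg (res G s₂) e₂
  rw [res_res, res_res, ← Category.assoc] at k₁ k₂
  refine sub_eq_zero.mp (h.inj R hwc ((s₁ ≫ r₁) ≫ a) (m₁ - m₂) ⟨x⟩ ?_)
  rw [map_sub, map_sub, sub_eq_zero]
  rw [← k₁, hs, k₂]

/-- The function of values of a section. -/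
def val : ↥Q.left → M := fun q => (exists_hasVal a y h q).choose

lemma val_spec (q : ↥Q.left) : HasVal φ a y q (val a y h q) := (exists_hasVal a y h q).choose_spec

lemma val_eq {q : ↥Q.left} {m : M} (hm : HasVal φ a y q m) : val a y h q = m :=
  hasVal_unique a y h (val_spec a y h q) hm

/-- The value of a section of a chart. -/
lemma val_res_chart (m : M) (q : ↥Q.left) : val a (res G a (φ m)) h q = m := by
  obtain ⟨W, hW, hwc, r, x, hx, -⟩ := exists_wc_at Q ⊤ (q := q) trivial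
  exact val_eq a _ h ⟨W, hW, hwc, r, x, hx, res_res G a r (φ m)⟩

/-- Values commute with restriction. -/
lemma val_res {Q' : X.ProEt} (b : Q' ⟶ Q) (q : ↥Q'.left) :
    val (b ≫ a) (res G b y) h q = val a y h (b.left.base q) := by
  obtain ⟨W, hW, hwc, r, x, hx, e⟩ := val_spec (b ≫ a) (res G b y) h q
  refine (val_eq a y h ⟨W, hW, hwc, r ≫ b, x, congrArg b.left.base hx, ?_⟩).symm
  rw [← res_res, e, Category.assoc]

lemma val_add (y' : G.obj.obj (op Q)) (q : ↥Q.left) :
    val a (y + y') h q = val a y h q + val a y' h q := by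
  obtain ⟨W₁, _, -, r₁, x₁, hx₁, e₁⟩ := val_spec a y h q
  obtain ⟨W₂, _, -, r₂, x₂, hx₂, e₂⟩ := val_spec a y' h q
  obtain ⟨R, hR, s₁, s₂, x, hwc, hs, hs₁, -⟩ := EpsUnit.exists_common r₁ r₂ x₁ x₂ (hx₁.trans hx₂.symm)
  have k₁ := congrArg (res G s₁) e₁
  have k₂ := congrArg (res G s₂) e₂
  rw [res_res, res_res, ← Category.assoc] at k₁ k₂
  rw [← hs] at k₂
  refine val_eq a _ h ⟨R, hR, hwc, s₁ ≫ r₁, x, (congrArg r₁.left.base hs₁).trans hx₁, ?_⟩
  rw [map_add, map_add, map_add, k₁, k₂]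

lemma val_smul (c : Λ) (q : ↥Q.left) : val a (c • y) h q = c • val a y h q := by
  obtain ⟨W, hW, hwc, r, x, hx, e⟩ := val_spec a y h q
  exact val_eq a _ h ⟨W, hW, hwc, r, x, hx, by rw [map_smul, map_smul, map_smul, e]⟩

lemma val_zero (q : ↥Q.left) : val a (0 : G.obj.obj (op Q)) h q = 0 := by
  have := val_smul a (0 : G.obj.obj (op Q)) h 0 q
  rwa [zero_smul, zero_smul] at this

lemma val_sub (y' : G.obj.obj (op Q)) (q : ↥Q.left) :
    val a (y - y') h q = val a y h q - val a y' h q := by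
  rw [eq_sub_iff_add_eq, ← val_add, sub_add_cancel]

/-- The values are locally constant. -/
theorem isLocallyConstant_val : IsLocallyConstant (val a y h) := by
  refine IsLocallyConstant.iff_isOpen_fiber.mpr fun m => isOpen_iff_forall_mem_open.mpr fun q hq => ?_
  obtain ⟨_, ⟨O, hO, rfl⟩, hqO, -⟩ :=
    Q.left.isBasis_affineOpens.exists_subset_of_mem_open (Set.mem_univ q) isOpen_univ
  obtain ⟨W, r, hW, hwc, hr⟩ := Covers.exists_over_affineOpen Q hO
  obtain ⟨l, hl⟩ := exists_lift O r fun z => hr.le ⟨z, rfl⟩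
  let l' : W.left ⟶ (O : Scheme.{u}) := l.left
  haveI : IsAffine (O : Scheme.{u}) := hO
  haveI : WeaklyEtale l' := Basic.weaklyEtale_left l
  haveI : Surjective l' := ⟨fun z => by
    obtain ⟨x, hx⟩ := hr.ge z.2
    refine ⟨x, Subtype.ext ?_⟩
    rw [← hl] at hx
    exact hx⟩
  have hT : IsOpen {z : (O : Scheme.{u}) | val a y h z.1 = m} := by
    rw [← (Flat.isQuotientMap_of_surjective l').isOpen_preimage, isOpen_iff_forall_mem_open]
    intro x hx
    obtain ⟨V, hV, m', hm'⟩ := h.surj W hwc (r ≫ a) (res G r y) x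
    have key : ∀ z ∈ V, val a y h (r.left.base z) = m' := fun z hz => by
      obtain ⟨W', hW', hwc', r', x', hx', hr'⟩ := exists_wc_at W V hz
      obtain ⟨k, hk⟩ := exists_lift V r' hr'
      have h1 := congrArg (res G k) hm'
      rw [res_res, res_res, res_res, ← Category.assoc, hk] at h1
      exact val_eq a y h ⟨W', hW', hwc', r' ≫ r, x', congrArg r.left.base hx', by rw [h1, Category.assoc]⟩
    have hlz : ∀ z, (l'.base z).1 = r.left.base z := fun z =>
      congrArg (fun ψ : W ⟶ Q => ψ.left.base z) hl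
    refine ⟨V, fun z hz => ?_, V.2, hV⟩
    have hmm : m' = m := (key x hV).symm.trans ((congrArg (val a y h) (hlz x)).symm.trans hx)
    exact (congrArg (val a y h) (hlz z)).trans ((key z hz).trans hmm)
  exact ⟨Subtype.val '' {z : (O : Scheme.{u}) | val a y h z.1 = m},
    by rintro _ ⟨z, hz, rfl⟩; exact hz, O.2.isOpenMap_subtype_val _ hT, ⟨q, hqO⟩, hq, rfl⟩

/-- A section with values zero vanishes. -/
theorem eq_zero_of_val (h0 : ∀ q, val a y h q = 0) : y = 0 := by
  obtain ⟨W, g, hW, hwc, hcov, -, -⟩ := Covers.exists_cover Q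
    (fun V : Q.left.affineOpens => V.1) (fun V => V.2) (iSup_affineOpens_eq_top Q.left)
  refine eq_of_cover G hcov fun i => ?_
  haveI := hW i
  rw [map_zero]
  choose O hO m hm using h.surj (W i) (hwc i) (g i ≫ a) (res G (g i) y)
  refine eq_of_openCover G O (fun w => ⟨w, hO w⟩) fun w => ?_
  have hm0 : m w = 0 := by
    let z : ↥(Decomp.piece (W i) (O w)).left := ⟨w, hO w⟩
    have e1 : val (Decomp.incl (W i) (O w) ≫ g i ≫ a) (res G (Decomp.incl (W i) (O w)) (res G (g i) y)) h z =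
        val (Decomp.incl (W i) (O w) ≫ g i ≫ a) (res G (Decomp.incl (W i) (O w) ≫ g i ≫ a) (φ (m w))) h z :=
      congrArg (fun s => val (Decomp.incl (W i) (O w) ≫ g i ≫ a) s h z) (hm w)
    rw [val_res_chart, val_res, val_res] at e1
    exact e1.symm.trans (h0 _)
  rw [hm w, hm0, map_zero, map_zero]
  exact (map_zero _).symm

theorem eq_of_val {y' : G.obj.obj (op Q)} (he : ∀ q, val a y h q = val a y' h q) : y = y' :=
  sub_eq_zero.mp (eq_zero_of_val a _ h fun q => by rw [val_sub, he, sub_self])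

/-- A section with constant values. -/
theorem eq_chart_of_val {m : M} (he : ∀ q, val a y h q = m) : y = res G a (φ m) :=
  eq_of_val a y h fun q => (he q).trans (val_res_chart a h m q).symm

/-- Near every point a section is constant, on any object over the chart. -/
theorem exists_nhd_eq_chart (q : ↥Q.left) : ∃ O : Q.left.Opens, q ∈ O ∧
    res G (Decomp.incl Q O) y = res G (Decomp.incl Q O ≫ a) (φ (val a y h q)) := by
  refine ⟨⟨_, (isLocallyConstant_val a y h).isOpen_fiber (val a y h q)⟩, rfl, ?_⟩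
  refine eq_chart_of_val _ _ h fun z => ?_
  exact (val_res a y h _ z).trans z.2

/-- Every locally constant function is the function of values of a section. -/
theorem exists_val_eq {f : ↥Q.left → M} (hf : IsLocallyConstant f) : ∃ y, ∀ q, val a y h q = f q := by
  let O : M → Q.left.Opens := fun m => ⟨f ⁻¹' {m}, hf {m}⟩
  obtain ⟨y, hy⟩ := exists_glue G O (fun q => ⟨f q, rfl⟩) (fun i j q hi hj => hi.symm.trans hj)
    fun m => res G (Decomp.incl Q (O m) ≫ a) (φ m)
  refine ⟨y, fun q => ?_⟩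
  let z : ↥(Decomp.piece Q (O (f q))).left := ⟨q, rfl⟩
  exact (val_res a y h (Decomp.incl Q (O (f q))) z).symm.trans
    ((congrArg (fun s => val _ s h z) (hy (f q))).trans (val_res_chart _ h _ z))

/-- Morphisms matching charts preserve values. -/
theorem val_map {G' : EtModW.ModP Λ X} (c : G ⟶ G') {φ' : M →ₗ[Λ] G'.obj.obj (op P)}
    (h' : IsChart G' φ') (hc : ∀ m, c.hom.app (op P) (φ m) = φ' m) (q : ↥Q.left) :
    val a (c.hom.app (op Q) y) h' q = val a y h q := by
  obtain ⟨W, hW, hwc, r, x, hx, e⟩ := val_spec a y h q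
  refine val_eq a _ h' ⟨W, hW, hwc, r, x, hx, ?_⟩
  rw [← hc]
  exact (ConcreteCategory.congr_hom (c.hom.naturality r.op) y).symm.trans
    ((congrArg (c.hom.app (op W)).hom e).trans (ConcreteCategory.congr_hom (c.hom.naturality (r ≫ a).op) _))

include a in
/-- Morphisms matching charts are bijective on sections. -/
theorem bijective_app {G' : EtModW.ModP Λ X} (c : G ⟶ G') {φ' : M →ₗ[Λ] G'.obj.obj (op P)}
    (h' : IsChart G' φ') (hc : ∀ m, c.hom.app (op P) (φ m) = φ' m) :
    Function.Bijective (c.hom.app (op Q)) := by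
  refine ⟨fun y y' e => eq_of_val a y h fun q => ?_, fun y' => ?_⟩
  · rw [← val_map a y h c h' hc, ← val_map a y' h c h' hc, e]
  · obtain ⟨y, hy⟩ := exists_val_eq a h (isLocallyConstant_val a y' h')
    exact ⟨y, eq_of_val a _ h' fun q => (val_map a y h c h' hc q).trans (hy q)⟩

end Groth.Agent.Lib.ProEtLC.Chart
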