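import Groth.Agent.Lib.ProEtLC.Cover

/-!
Sheaves with charts on etale objects come from the etale site.
-/

set_option autoImplicit false
set_option linter.style.haveILetI false

universe u

open CategoryTheory CategoryTheory.Limits AlgebraicGeometry Opposite

noncomputable section

namespace Groth.Agent.Lib.ProEtLC.Counit

set_option backward.isDefEq.respectTransparency.types false

open ProEt ProEt.EpsMod Chart H88.EtMod Groth.Agent.Lib.EtSite Groth.Agent.Lib.EtSite.Basic

attribute [local instance] ProEt.Continuity.epsCont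

variable {Λ : Type (u + 1)} [CommRing Λ] {X : Scheme.{u}} (G : EtModW.ModP Λ X)

/-- The pushforward to the etale site. -/
abbrev push : EtModW.Mod Λ X :=
  ((ProEtS.eps X).sheafPushforwardContinuous (ModuleCat.{u + 1} Λ) X.smallEtaleTopology
    (Scheme.ProEt.topology X)).obj G

variable {G} {E : X.Etale} {M : Type (u + 1)} [AddCommGroup M] [Module Λ M]

/-- A chart on an etale object is a chart of the pushforward. -/
theorem isChart_push {ψ : M →ₗ[Λ] G.obj.obj (op ((ProEtS.eps X).obj E))} (h : IsChart G ψ) :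
    LCChart.IsChart (push G) E ψ := by
  intro Ω _ _ ξ p
  refine ⟨fun m m' hm => ?_, fun z => ?_⟩
  · obtain ⟨V, g, q, -, hV⟩ := ((Scheme.pointSmallEtale ξ).toPresheafFiber_eq_iff' E p _ _).1 hm
    obtain ⟨W, hW, hwc, r, x, -, -⟩ :=
      exists_wc_at ((ProEtS.eps X).obj V) ⊤ (q := fiberPt q) trivial
    haveI := hW
    refine sub_eq_zero.mp (h.inj W hwc (r ≫ (ProEtS.eps X).map g) (m - m') ⟨x⟩ ?_)
    rw [map_sub, map_sub, sub_eq_zero, ← res_res, ← res_res]
    exact congrArg (res G r) hV
  · obtain ⟨V, g, q, s, hq, rfl⟩ := LCChart.exists_germ_eq (push G) E ξ p z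
    let s' : G.obj.obj (op ((ProEtS.eps X).obj V)) := s
    obtain ⟨O, hO, hOs⟩ := exists_nhd_eq_chart ((ProEtS.eps X).map g) s' h (fiberPt q)
    let j : EtSections.piece V O ⟶ V := EtSections.incl V O
    obtain ⟨q', hq', -⟩ := Fiber.exists_fiber_map ξ j q ⟨fiberPt q, hO⟩ rfl
    refine ⟨val ((ProEtS.eps X).map g) s' h (fiberPt q), ?_⟩
    let m := val ((ProEtS.eps X).map g) s' h (fiberPt q)
    have e : (push G).obj.map j.op s = (push G).obj.map (j ≫ g).op (ψ m) := hOs
    have h2 := congrArg (LCChart.germ (push G) _ ξ q') e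
    rw [LCChart.germ_map, LCChart.germ_map, Functor.map_comp, ConcreteCategory.comp_apply, hq', hq] at h2
    exact h2.symm

/-- The counit preserves the sections coming from the etale site. -/
lemma counit_η (x : (push G).obj.obj (op E)) :
    ((adjM Λ).counit.app G).hom.app (op ((ProEtS.eps X).obj E)) (Iso.ηM (push G) E x) = x :=
  congrArg (fun t : push G ⟶ push G => t.hom.app (op E) x) ((adjM Λ).right_triangle_components G)

/-- The counit is bijective on objects over etale objects with charts. -/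
theorem bijective_counit {ψ : M →ₗ[Λ] G.obj.obj (op ((ProEtS.eps X).obj E))} (h : IsChart G ψ)
    {Q : X.ProEt} (a : Q ⟶ (ProEtS.eps X).obj E) :
    Function.Bijective (((adjM Λ).counit.app G).hom.app (op Q)) :=
  bijective_app a (Iso.isChart_eps (push G) E (isChart_push h)) ((adjM Λ).counit.app G) h
    fun m => counit_η (ψ m)

/-- A sheaf with charts on a covering family of etale objects comes from the etale site. -/
theorem isIso_counit {ι : Type*} (E : ι → X.Etale) (hE : ∀ x : X, ∃ (i : ι) (e : ↥(E i).left), (E i).hom.base e = x)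
    {N : ι → Type (u + 1)} [∀ i, AddCommGroup (N i)] [∀ i, Module Λ (N i)]
    {ψ : ∀ i, N i →ₗ[Λ] G.obj.obj (op ((ProEtS.eps X).obj (E i)))} (h : ∀ i, IsChart G (ψ i)) :
    IsIso ((adjM Λ).counit.app G) := by
  let c := (adjM Λ).counit.app G
  let K := ((EtModW.epsPullMod Λ X).obj (push G))
  have key : ∀ W : X.ProEt, ∃ (Y : ι → X.ProEt) (e : ∀ i, Y i ⟶ W),
      Sieve.ofArrows Y e ∈ Scheme.ProEt.topology X W ∧
        ∀ i, Function.Bijective (c.hom.app (op (Y i))) := by
    intro W
    let t : W ⟶ ProEtS.topP X := MorphismProperty.Over.homMk W.hom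
    let s : ∀ i, (ProEtS.eps X).obj (E i) ⟶ ProEtS.topP X := fun i =>
      MorphismProperty.Over.homMk (E i).hom
    refine ⟨fun i => pullback t (s i), fun i => pullback.fst t (s i), ?_,
      fun i => bijective_counit (h i) (pullback.snd t (s i))⟩
    refine Continuity.ofArrows_mem_of_isOpenMap _ (fun i => ?_) (Set.eq_univ_of_forall fun w => ?_)
    · haveI hs : Etale (s i).left := (E i).prop
      haveI : Etale (pullback.fst t (s i)).left :=
        MorphismProperty.of_isPullback (EpsColimit.isPullback_left t (s i)).flip hs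
      exact (pullback.fst t (s i)).left.isOpenMap
    · obtain ⟨i, e, he⟩ := hE (W.hom.base w)
      obtain ⟨T, hT, -⟩ := EpsColimit.exists_point t (s i) w e he.symm
      exact Set.mem_iUnion.mpr ⟨i, T, hT⟩
  haveI : Sheaf.IsLocallyInjective c := ⟨fun {W} x y hxy => by
    obtain ⟨Y, e, hcov, hbij⟩ := key W.unop
    refine GrothendieckTopology.superset_covering _ ?_ hcov
    rw [Sieve.ofArrows, Sieve.generate_le_iff]
    rintro _ _ ⟨i⟩
    refine (hbij i).1 ?_
    have n1 := ConcreteCategory.congr_hom (c.hom.naturality (e i).op) x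
    have n2 := ConcreteCategory.congr_hom (c.hom.naturality (e i).op) y
    exact n1.trans ((congrArg (G.obj.map (e i).op) hxy).trans n2.symm)⟩
  haveI : Sheaf.IsLocallySurjective c := ⟨fun {W} s => by
    obtain ⟨Y, e, hcov, hbij⟩ := key W
    refine GrothendieckTopology.superset_covering _ ?_ hcov
    rw [Sieve.ofArrows, Sieve.generate_le_iff]
    rintro _ _ ⟨i⟩
    obtain ⟨t, ht⟩ := (hbij i).2 (G.obj.map (e i).op s)
    exact ⟨t, ht⟩⟩
  exact (Sheaf.isLocallyBijective_iff_isIso c).1 ⟨inferInstance, inferInstance⟩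

/-- Locally constant sheaves of finite presentation come from the etale site. -/
theorem exists_etale (hG : EtModW.IsFPLocConstP Λ G) :
    ∃ F : EtModW.Mod Λ X, EtModW.IsFPLocConst Λ F ∧
      Nonempty ((EtModW.epsPullMod Λ X).obj F ≅ G) := by
  obtain ⟨ι, U, hU, hc⟩ := hG
  choose N i1 i2 i3 hiso using hc
  letI := i1
  letI := i2
  choose φ hφ using fun i => Iso.exists_isChart (hiso i).some
  choose i₀ E ψ hpt hψ using fun x => Cover.exists_chart i3 hU hφ x
  haveI := isIso_counit E (fun x => ⟨x, hpt x⟩) hψ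
  refine ⟨push G, ⟨X, E, fun x => ?_, fun x =>
    ⟨N (i₀ x), inferInstance, inferInstance, i3 _, (isChart_push (hψ x)).nonempty_iso⟩⟩,
    ⟨asIso ((adjM Λ).counit.app G)⟩⟩
  obtain ⟨e, he⟩ := hpt x
  exact ⟨x, e, he⟩

/-- Pullback preserves locally constant sheaves of finite presentation. -/
theorem isFPLocConstP_pull (F : EtModW.Mod Λ X) (hF : EtModW.IsFPLocConst Λ F) :
    EtModW.IsFPLocConstP Λ ((EtModW.epsPullMod Λ X).obj F) := by
  obtain ⟨ι, U, hU, hc⟩ := hF
  refine ⟨ι, fun i => (ProEtS.eps X).obj (U i), ?_, fun i => ?_⟩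
  · refine Continuity.ofArrows_mem_of_isOpenMap _ (fun i => ?_) (Set.eq_univ_of_forall fun x => ?_)
    · haveI : Etale (U i).hom := (U i).prop
      exact (U i).hom.isOpenMap
    · obtain ⟨i, y, hy⟩ := hU x
      exact Set.mem_iUnion.mpr ⟨i, y, hy⟩
  · obtain ⟨M, a, b, c, ⟨e⟩⟩ := hc i
    letI := a
    letI := b
    obtain ⟨φ, hφ⟩ := LCChart.exists_isChart e
    exact ⟨M, a, b, c, Iso.nonempty_iso (Iso.isChart_eps F (U i) hφ)⟩

end Groth.Agent.Lib.ProEtLC.Counit
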