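import Groth.Agent.Lib.ProEtLC.Descend
import Groth.Agent.Lib.ProEt.PresExists

/-!
Charts of finite presentation exist on etale neighbourhoods of every point.
-/

set_option autoImplicit false
set_option linter.style.haveILetI false

universe u

open CategoryTheory CategoryTheory.Limits AlgebraicGeometry Opposite

noncomputable section

namespace Groth.Agent.Lib.ProEtLC.Cover

set_option backward.isDefEq.respectTransparency.types false

open ProEt Chart

attribute [local instance] ProEt.Continuity.epsCont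

variable {Λ : Type (u + 1)} [CommRing Λ] {X : Scheme.{u}} {G : EtModW.ModP Λ X}
  {M : Type (u + 1)} [AddCommGroup M] [Module Λ M]

/-- Charts transport along linear equivalences. -/
lemma isChart_comp {P : X.ProEt} {φ : M →ₗ[Λ] G.obj.obj (op P)} (h : IsChart G φ)
    {M' : Type (u + 1)} [AddCommGroup M'] [Module Λ M'] (e : M' ≃ₗ[Λ] M) :
    IsChart G (φ ∘ₗ e.toLinearMap) where
  inj W _ hW a m hne h0 := e.map_eq_zero_iff.mp (h.inj W hW a (e m) hne h0)
  surj W _ hW a y w := by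
    obtain ⟨O, hO, m, hm⟩ := h.surj W hW a y w
    refine ⟨O, hO, e.symm m, hm.trans ?_⟩
    change _ = res G (Decomp.incl W O ≫ a) (φ (e (e.symm m)))
    rw [e.apply_symm_apply]

/-- Everything is a chart over an empty object. -/
lemma isChart_of_isEmpty {P : X.ProEt} [IsEmpty ↥P.left] (φ : M →ₗ[Λ] G.obj.obj (op P)) :
    IsChart G φ where
  inj _ _ _ a _ hne _ := hne.elim fun w => isEmptyElim (a.left.base w)
  surj _ _ _ a _ w := isEmptyElim (a.left.base w)

/-- Being a chart is local. -/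
lemma isChart_of_openCover {P : X.ProEt} (φ : M →ₗ[Λ] G.obj.obj (op P)) {ι : Type*}
    (V : ι → P.left.Opens) (hV : ∀ q, ∃ k, q ∈ V k)
    (h : ∀ k, IsChart G (res G (Decomp.incl P (V k)) ∘ₗ φ)) : IsChart G φ where
  inj W _ hW a m hne h0 := by
    obtain ⟨w⟩ := hne
    obtain ⟨k, hk⟩ := hV (a.left.base w)
    let O : W.left.Opens := (a.left : W.left ⟶ P.left) ⁻¹ᵁ V k
    obtain ⟨W', hW', hwc', r, x, -, hr⟩ := exists_wc_at W O (q := w) hk
    haveI := hW'
    obtain ⟨l, hl⟩ := exists_lift (V k) (r ≫ a) hr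
    refine (h k).inj W' hwc' l m ⟨x⟩ ?_
    change res G l (res G (Decomp.incl P (V k)) (φ m)) = 0
    rw [res_res, hl, ← res_res, h0, map_zero]
  surj W _ _ a y w := by
    obtain ⟨k, hk⟩ := hV (a.left.base w)
    let O : W.left.Opens := (a.left : W.left ⟶ P.left) ⁻¹ᵁ V k
    obtain ⟨b, hb⟩ := exists_lift (V k) (Decomp.incl W O ≫ a) fun z => z.2
    let w' : ↥(Decomp.piece W O).left := ⟨w, hk⟩
    obtain ⟨T, hT, hTy⟩ := exists_nhd_eq_chart b (res G (Decomp.incl W O) y) (h k) w'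
    let O' : W.left.Opens := O.ι ''ᵁ T
    obtain ⟨l₁, hl₁⟩ := exists_lift O (Decomp.incl W O') (fun z => by
      obtain ⟨t, -, ht⟩ := z.2
      exact Eq.mp (congrArg (· ∈ O) ht) t.2)
    obtain ⟨l₂, hl₂⟩ := exists_lift T l₁ fun z => by
      obtain ⟨t, ht, htz⟩ := z.2
      have he : (l₁.left.base z : ↥O.toScheme) = t := Subtype.ext
        ((congrArg (fun g : Decomp.piece W O' ⟶ W => g.left.base z) hl₁).trans htz.symm)
      exact Eq.mpr (congrArg (· ∈ T) he) ht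
    refine ⟨O', ⟨w', hT, rfl⟩, val b (res G (Decomp.incl W O) y) (h k) w', ?_⟩
    have e := congrArg (res G l₂) hTy
    rw [LinearMap.comp_apply, res_res, res_res, res_res, res_res] at e
    have e₁ : (l₂ ≫ Decomp.incl (Decomp.piece W O) T) ≫ Decomp.incl W O = Decomp.incl W O' := by
      rw [hl₂, hl₁]
    have e₂ : (l₂ ≫ Decomp.incl (Decomp.piece W O) T ≫ b) ≫ Decomp.incl P (V k) = Decomp.incl W O' ≫ a := by
      rw [Category.assoc, Category.assoc, hb, ← Category.assoc, hl₂, ← Category.assoc, hl₁]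
    rw [e₁, e₂] at e
    exact e

/-- Charts meeting over a point have isomorphic modules. -/
theorem nonempty_equiv {M' : Type (u + 1)} [AddCommGroup M'] [Module Λ M'] {P P' : X.ProEt}
    {φ : M →ₗ[Λ] G.obj.obj (op P)} {φ' : M' →ₗ[Λ] G.obj.obj (op P')} (h : IsChart G φ) (h' : IsChart G φ')
    (q : ↥P.left) (q' : ↥P'.left) (e : P.hom.base q = P'.hom.base q') : Nonempty (M' ≃ₗ[Λ] M) := by
  let t : P ⟶ ProEtS.topP X := MorphismProperty.Over.homMk P.hom
  let t' : P' ⟶ ProEtS.topP X := MorphismProperty.Over.homMk P'.hom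
  obtain ⟨R, _, r, r', x, -, -, -, -⟩ := EpsUnit.exists_common t t' q q' e
  let f : M' →ₗ[Λ] M :=
    { toFun := fun m => val r (res G r' (φ' m)) h x
      map_add' := fun m m' => by rw [map_add, map_add, val_add]
      map_smul' := fun c m => by rw [map_smul, map_smul, val_smul]; rfl }
  exact ⟨LinearEquiv.ofBijective f (Descend.bijective_transition h h' r r' x)⟩

/-- A chart over a point gives charts with the same module on all objects with charts over the point. -/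
theorem exists_isChart_of_equiv {P : X.ProEt} {M' : Type (u + 1)} [AddCommGroup M'] [Module Λ M']
    {φ' : M' →ₗ[Λ] G.obj.obj (op P)} (h' : IsChart G φ') (he : Nonempty ↥P.left → Nonempty (M' ≃ₗ[Λ] M)) :
    ∃ φ : M →ₗ[Λ] G.obj.obj (op P), IsChart G φ := by
  rcases isEmpty_or_nonempty ↥P.left with hP | hP
  · exact ⟨0, isChart_of_isEmpty 0⟩
  · obtain ⟨e⟩ := he hP
    exact ⟨_, isChart_comp h' e.symm⟩

variable {ι : Type u} {U : ι → X.ProEt} {N : ι → Type (u + 1)} [∀ i, AddCommGroup (N i)]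
  [∀ i, Module Λ (N i)] {φ : ∀ i, N i →ₗ[Λ] G.obj.obj (op (U i))}

/-- Weakly contractible affine objects decompose into pieces with charts. -/
theorem exists_pieces (hU : EtModW.CoversP U) (h : ∀ i, IsChart G (φ i)) (R : X.ProEt) [IsAffine R.left]
    (hR : EtPBC.IsWContractible ↥Γ(R.left, ⊤)) :
    ∃ (n : ℕ) (W : Fin n → R.left.Opens) (i : Fin n → ι), (∀ k, IsClopen (W k : Set ↥R.left)) ∧
      (∀ q, ∃ k, q ∈ W k) ∧ (∀ k l q, q ∈ W k → q ∈ W l → k = l) ∧
      ∀ k, ∃ ψ : N (i k) →ₗ[Λ] G.obj.obj (op (Decomp.piece R (W k))), IsChart G ψ := by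
  let t : R ⟶ ProEtS.topP X := MorphismProperty.Over.homMk R.hom
  obtain ⟨n, W, hW, hd, hu, hS⟩ := Decomp.exists_decomposition hR
    ((Scheme.ProEt.topology X).pullback_stable t hU)
  have aux : ∀ {Z : X.ProEt} (g : Z ⟶ ProEtS.topP X), Presieve.ofArrows (X := ProEtS.topP X) U
      (fun i => (MorphismProperty.Over.homMk (U i).hom : U i ⟶ ProEtS.topP X)) g →
      ∃ i, Nonempty (Z ⟶ U i) := fun g hg => by
    obtain ⟨i⟩ := hg
    exact ⟨i, ⟨𝟙 _⟩⟩
  have key : ∀ k, ∃ i, Nonempty (Decomp.piece R (W k) ⟶ U i) := fun k => by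
    obtain ⟨Z, a, g, hg, -⟩ := hS k
    obtain ⟨i, ⟨b⟩⟩ := aux g hg
    exact ⟨i, ⟨a ≫ b⟩⟩
  choose i b using key
  refine ⟨n, W, i, hW, fun q => Set.mem_iUnion.mp (hu.ge (Set.mem_univ q)), fun k l q hk hl => ?_, fun k => ?_⟩
  · by_contra hne
    exact Set.disjoint_left.mp (hd hne) hk hl
  · exact ⟨_, (h (i k)).restrict (b k).some⟩

/-- Near every point of the base there is a weakly contractible cover of an affine open with a chart. -/
theorem exists_cover_chart (hU : EtModW.CoversP U) (h : ∀ i, IsChart G (φ i)) (x₀ : X) :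
    ∃ (i₀ : ι) (O : X.Opens) (_ : IsAffineOpen O) (R : X.ProEt) (_ : IsAffine R.left)
      (_ : EtPBC.IsWContractible ↥Γ(R.left, ⊤)) (ψ : N i₀ →ₗ[Λ] G.obj.obj (op R)),
      x₀ ∈ O ∧ Set.range R.hom.base = (O : Set X) ∧ IsChart G ψ := by
  obtain ⟨_, ⟨A, hA, rfl⟩, hxA, -⟩ :=
    X.isBasis_affineOpens.exists_subset_of_mem_open (Set.mem_univ x₀) isOpen_univ
  obtain ⟨R₀, g, hR₀, hwc, hrange⟩ := Covers.exists_over_affineOpen (ProEtS.topP X) (W := A) hA
  haveI := hR₀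
  obtain ⟨n, W, i, hW, hcov, -, hch⟩ := exists_pieces hU h R₀ hwc
  have hg : (g.left : R₀.left ⟶ X) = R₀.hom := (Category.comp_id _).symm.trans (MorphismProperty.Over.w g)
  have hrange' : Set.range R₀.hom.base = (A : Set X) := hg ▸ hrange
  obtain ⟨q₀, hq₀⟩ := hrange'.ge hxA
  obtain ⟨k₀, hk₀⟩ := hcov q₀
  let T : Set ↥R₀.left := ⋃ k ∈ {k | ¬Nonempty (N (i k) ≃ₗ[Λ] N (i k₀))}, (W k : Set ↥R₀.left)
  have hT : IsClopen T := Set.Finite.isClopen_biUnion (Set.toFinite _) fun k _ => hW k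
  have hsat : ∀ q q', R₀.hom.base q = R₀.hom.base q' → q ∈ T → q' ∈ T := fun q q' e hq => by
    obtain ⟨k, hk, hqk⟩ := Set.mem_iUnion₂.mp hq
    obtain ⟨l, hl⟩ := hcov q'
    refine Set.mem_iUnion₂.mpr ⟨l, fun ⟨el⟩ => hk ?_, hl⟩
    obtain ⟨ψ, hψ⟩ := hch k
    obtain ⟨ψ', hψ'⟩ := hch l
    obtain ⟨e'⟩ := nonempty_equiv hψ' hψ (⟨q', hl⟩ : ↥(Decomp.piece R₀ (W l)).left) ⟨q, hqk⟩ e.symm
    exact ⟨e'.trans el⟩
  obtain ⟨p, hp⟩ := exists_lift (Q := ProEtS.topP X) A g fun z => hrange.le ⟨z, rfl⟩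
  let p' : R₀.left ⟶ (A : Scheme.{u}) := p.left
  have hp' : ∀ z, (p'.base z).1 = R₀.hom.base z := fun z =>
    (congrArg (fun ψ : R₀ ⟶ ProEtS.topP X => ψ.left.base z) hp).trans
      (congrArg (fun ψ : R₀.left ⟶ X => ψ.base z) hg)
  haveI : IsAffine (A : Scheme.{u}) := hA
  haveI : WeaklyEtale p' := Basic.weaklyEtale_left p
  haveI : Surjective p' := ⟨fun z => by
    obtain ⟨x, hx⟩ := hrange'.ge z.2
    exact ⟨x, Subtype.ext ((hp' x).trans hx)⟩⟩
  let C : Set X := {x | ∃ q, R₀.hom.base q = x ∧ q ∉ T}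
  have hC : IsOpen C := by
    have hC' : IsOpen {z : (A : Scheme.{u}) | z.1 ∈ C} := by
      rw [← (Flat.isQuotientMap_of_surjective p').isOpen_preimage]
      have : p'.base ⁻¹' {z : (A : Scheme.{u}) | z.1 ∈ C} = Tᶜ := by
        ext q
        constructor
        · rintro ⟨q', hq', hq'T⟩ hqT
          exact hq'T (hsat q q' ((hq'.trans (hp' q)).symm) hqT)
        · exact fun hq => ⟨q, (hp' q).symm, hq⟩
      rw [this]
      exact hT.isClosed.isOpen_compl
    have : C = Subtype.val '' {z : (A : Scheme.{u}) | z.1 ∈ C} := by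
      ext x
      refine ⟨fun hx => ?_, by rintro ⟨z, hz, rfl⟩; exact hz⟩
      have hx' := hx
      obtain ⟨q, hq, -⟩ := hx'
      exact ⟨⟨x, hrange'.le ⟨q, hq⟩⟩, hx, rfl⟩
    rw [this]
    exact A.2.isOpenMap_subtype_val _ hC'
  have hx₀ : x₀ ∈ C := ⟨q₀, hq₀, fun hq => by
    obtain ⟨k, hk, hqk⟩ := Set.mem_iUnion₂.mp hq
    obtain ⟨ψ, hψ⟩ := hch k
    obtain ⟨ψ', hψ'⟩ := hch k₀
    exact hk (nonempty_equiv hψ' hψ (⟨q₀, hk₀⟩ : ↥(Decomp.piece R₀ (W k₀)).left) ⟨q₀, hqk⟩ rfl)⟩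
  obtain ⟨_, ⟨O, hO, rfl⟩, hxO, hOC⟩ := X.isBasis_affineOpens.exists_subset_of_mem_open hx₀ hC
  obtain ⟨R, g₁, hR, hwc₁, hrange₁⟩ := Covers.exists_over_affineOpen (ProEtS.topP X) (W := O) hO
  haveI := hR
  have hg₁ : (g₁.left : R.left ⟶ X) = R.hom :=
    (Category.comp_id _).symm.trans (MorphismProperty.Over.w g₁)
  have hrange₁' : Set.range R.hom.base = (O : Set X) := hg₁ ▸ hrange₁
  obtain ⟨n', W', i', hW', hcov', hdisj', hch'⟩ := exists_pieces hU h R hwc₁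
  have hch'' : ∀ k, ∃ ψ : N (i k₀) →ₗ[Λ] G.obj.obj (op (Decomp.piece R (W' k))), IsChart G ψ := fun k => by
    obtain ⟨ψ, hψ⟩ := hch' k
    refine exists_isChart_of_equiv hψ fun ⟨z⟩ => ?_
    obtain ⟨q, hq, hqT⟩ := hOC (hrange₁'.le ⟨z.1, rfl⟩)
    obtain ⟨l, hl⟩ := hcov q
    have hl' : Nonempty (N (i l) ≃ₗ[Λ] N (i k₀)) := by
      by_contra hne
      exact hqT (Set.mem_iUnion₂.mpr ⟨l, hne, hl⟩)
    obtain ⟨e'⟩ := hl'
    obtain ⟨ψ', hψ'⟩ := hch l
    obtain ⟨e⟩ := nonempty_equiv hψ' hψ (⟨q, hl⟩ : ↥(Decomp.piece R₀ (W l)).left) z hq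
    exact ⟨e.trans e'⟩
  choose ψ hψ using hch''
  choose y hy using fun m => exists_glue G W' hcov' hdisj' fun k => ψ k m
  let ψR : N (i k₀) →ₗ[Λ] G.obj.obj (op R) :=
    { toFun := y
      map_add' := fun m m' => eq_of_openCover G W' hcov' fun k => by
        rw [map_add, hy, hy, hy, map_add]
      map_smul' := fun c m => eq_of_openCover G W' hcov' fun k => by
        rw [RingHom.id_apply, map_smul, hy, hy, map_smul] }
  refine ⟨i k₀, O, hO, R, hR, hwc₁, ψR, hxO, hrange₁', isChart_of_openCover ψR W' hcov' fun k => ?_⟩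
  have : res G (Decomp.incl R (W' k)) ∘ₗ ψR = ψ k := LinearMap.ext fun m => hy m k
  rw [this]
  exact hψ k

/-- An open subscheme as an etale object. -/
def openObj (O : X.Opens) : X.Etale := MorphismProperty.Over.mk ⊤ O.ι (inferInstance : Etale O.ι)

/-- Charts of finite presentation exist on etale neighbourhoods. -/
theorem exists_chart (hfp : ∀ i, Module.FinitePresentation Λ (N i)) (hU : EtModW.CoversP U)
    (h : ∀ i, IsChart G (φ i)) (x₀ : X) :
    ∃ (i₀ : ι) (E : X.Etale) (ψ : N i₀ →ₗ[Λ] G.obj.obj (op ((ProEtS.eps X).obj E))),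
      (∃ e : ↥E.left, E.hom.base e = x₀) ∧ IsChart G ψ := by
  obtain ⟨i₀, O, hO, R, hR, hwc, ψ, hx, hrange, hψ⟩ := exists_cover_chart hU h x₀
  haveI := hR
  obtain ⟨p⟩ := EtPres.nonempty_pres R hwc
  obtain ⟨a, ha⟩ := exists_lift (Q := ProEtS.topP X) O (MorphismProperty.Over.homMk R.hom)
    fun z => hrange.le ⟨z, rfl⟩
  let a' : R ⟶ (ProEtS.eps X).obj (openObj O) :=
    MorphismProperty.Over.homMk a.left (congrArg (fun ψ : R ⟶ ProEtS.topP X => ψ.left) ha)
  obtain ⟨i, f, hf⟩ := p.exists_factor a'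
  have hsurj : Surjective a'.left := ⟨fun z => by
    obtain ⟨q, hq⟩ := hrange.ge z.2
    exact ⟨q, Subtype.ext ((congrArg (fun ψ : R ⟶ ProEtS.topP X => ψ.left.base q) ha).trans hq)⟩⟩
  let S : Descend.Setup X := ⟨openObj O, hO, R, hR, a', hsurj, p, i, f, hf⟩
  haveI := hfp i₀
  obtain ⟨j, ψ', hψ', -⟩ := Descend.exists_chart S (φ := ψ) hψ
  obtain ⟨q, hq⟩ := hrange.ge hx
  refine ⟨i₀, p.D.obj j.left, ψ', ⟨(p.π.app j.left).left.base q, ?_⟩, hψ'⟩
  exact (congrArg (fun ψ : R.left ⟶ X => ψ.base q) (MorphismProperty.Over.w (p.π.app j.left))).trans hq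

end Groth.Agent.Lib.ProEtLC.Cover
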