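import Mathlib.AlgebraicGeometry.AffineTransitionLimit
import Mathlib.Topology.LocallyConstant.Basic

/-!
Locally constant functions on cofiltered limits of schemes descend to a finite stage.
-/

set_option autoImplicit false
set_option linter.style.haveILetI false

universe u w

open CategoryTheory CategoryTheory.Limits AlgebraicGeometry

noncomputable section

namespace Groth.Agent.Lib.ProEtLC.Limit

variable {I : Type u} [SmallCategory I] [IsCofiltered I] (D : I ⥤ Scheme.{u}) (c : Cone D) (hc : IsLimit c)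
  [∀ {i j} (f : i ⟶ j), IsAffineHom (D.map f)] [∀ i, CompactSpace ↥(D.obj i)]
  [∀ i, QuasiSeparatedSpace ↥(D.obj i)]

omit [IsCofiltered I] [∀ {i j} (f : i ⟶ j), IsAffineHom (D.map f)] [∀ i, CompactSpace ↥(D.obj i)]
  [∀ i, QuasiSeparatedSpace ↥(D.obj i)] in
lemma π_base {i j : I} (a : j ⟶ i) (x : ↥c.pt) :
    (D.map a).base ((c.π.app j).base x) = (c.π.app i).base x :=
  congrArg (fun φ : c.pt ⟶ D.obj i => φ.base x) (c.w a)

omit [IsCofiltered I] [∀ {i j} (f : i ⟶ j), IsAffineHom (D.map f)] [∀ i, CompactSpace ↥(D.obj i)]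
  [∀ i, QuasiSeparatedSpace ↥(D.obj i)] in
lemma map_base {i j k : I} (a : k ⟶ j) (b : j ⟶ i) (x : ↥(D.obj k)) :
    (D.map (a ≫ b)).base x = (D.map b).base ((D.map a).base x) :=
  congrArg (fun φ : D.obj k ⟶ D.obj i => φ.base x) (D.map_comp a b)

include hc in
/-- Clopen sets descend. -/
theorem exists_clopen {O : Set ↥c.pt} (hO : IsClopen O) :
    ∃ (i : I) (V : Set ↥(D.obj i)), IsClopen V ∧ ∀ x, (c.π.app i).base x ∈ V ↔ x ∈ O := by
  haveI := Scheme.compactSpace_of_isLimit D c hc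
  obtain ⟨i, V, hV, hVO⟩ := exists_preimage_eq D c hc ⟨O, hO.2⟩ hO.1.isCompact
  obtain ⟨i', V', hV', hVO'⟩ := exists_preimage_eq D c hc ⟨Oᶜ, hO.1.isOpen_compl⟩ hO.compl.1.isCompact
  let j := IsCofiltered.min i i'
  let a : j ⟶ i := IsCofiltered.minToLeft _ _
  let a' : j ⟶ i' := IsCofiltered.minToRight _ _
  let W : (D.obj j).Opens := D.map a ⁻¹ᵁ V
  let W' : (D.obj j).Opens := D.map a' ⁻¹ᵁ V'
  have hW : ∀ x, (c.π.app j).base x ∈ W ↔ x ∈ O := fun x => by
    change (D.map a).base ((c.π.app j).base x) ∈ V ↔ _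
    rw [π_base]
    exact Set.ext_iff.mp (congrArg (fun U : c.pt.Opens => (U : Set ↥c.pt)) hVO) x
  have hW' : ∀ x, (c.π.app j).base x ∈ W' ↔ x ∉ O := fun x => by
    change (D.map a').base ((c.π.app j).base x) ∈ V' ↔ _
    rw [π_base]
    exact Set.ext_iff.mp (congrArg (fun U : c.pt.Opens => (U : Set ↥c.pt)) hVO') x
  obtain ⟨k, b, hk⟩ := exists_map_eq_top D c hc (W ⊔ W') (TopologicalSpace.Opens.ext (Set.eq_univ_of_forall
    fun x => (em (x ∈ O)).elim (fun h => Or.inl ((hW x).2 h)) fun h => Or.inr ((hW' x).2 h)))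
  have hWc : IsCompact ((W ⊓ W' : (D.obj j).Opens) : Set ↥(D.obj j)) :=
    QuasiSeparatedSpace.inter_isCompact _ _ W.2 ((D.map a).isCompact_preimage hV) W'.2
      ((D.map a').isCompact_preimage hV')
  obtain ⟨k', b', hk'⟩ := exists_map_preimage_le_map_preimage D c hc (V := ⊥) hWc
    (fun x hx => absurd ((hW x).1 hx.1) ((hW' x).1 hx.2))
  obtain ⟨l, e, e', he⟩ := IsCofiltered.cospan b b'
  have htop : ∀ z : ↥(D.obj l), (D.map (e ≫ b)).base z ∈ W ∨ (D.map (e ≫ b)).base z ∈ W' := fun z => by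
    rw [map_base]
    exact hk.ge (Set.mem_univ ((D.map e).base z))
  have hdis : ∀ z : ↥(D.obj l), (D.map (e ≫ b)).base z ∈ W → (D.map (e ≫ b)).base z ∈ W' → False :=
    fun z h h' => by
      rw [he, map_base] at h h'
      exact hk' ⟨h, h'⟩
  refine ⟨l, ((D.map (e ≫ b) ⁻¹ᵁ W : (D.obj l).Opens) : Set ↥(D.obj l)), ⟨?_, (D.map (e ≫ b) ⁻¹ᵁ W).2⟩,
    fun x => ?_⟩
  · have : ((D.map (e ≫ b) ⁻¹ᵁ W : (D.obj l).Opens) : Set ↥(D.obj l)) =
        ((D.map (e ≫ b) ⁻¹ᵁ W' : (D.obj l).Opens) : Set ↥(D.obj l))ᶜ :=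
      Set.ext fun z => ⟨fun h h' => hdis z h h', fun h => (htop z).resolve_right h⟩
    rw [this]
    exact (D.map (e ≫ b) ⁻¹ᵁ W').2.isClosed_compl
  · change (D.map (e ≫ b)).base ((c.π.app l).base x) ∈ W ↔ _
    rw [π_base]
    exact hW x

include hc in
/-- Locally constant functions descend. -/
theorem exists_locallyConstant {M : Type w} [AddCommGroup M] {f : ↥c.pt → M} (hf : IsLocallyConstant f) :
    ∃ (i : I) (g : ↥(D.obj i) → M), IsLocallyConstant g ∧ ∀ x, g ((c.π.app i).base x) = f x := by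
  classical
  haveI := Scheme.compactSpace_of_isLimit D c hc
  suffices h : ∀ s : Finset M, ∃ (i : I) (g : ↥(D.obj i) → M), IsLocallyConstant g ∧
      ∀ x, g ((c.π.app i).base x) = if f x ∈ s then f x else 0 by
    obtain ⟨i, g, hg, hgf⟩ := h hf.range_finite.toFinset
    refine ⟨i, g, hg, fun x => (hgf x).trans (if_pos ?_)⟩
    exact hf.range_finite.mem_toFinset.mpr ⟨x, rfl⟩
  intro s
  induction s using Finset.induction_on with
  | empty =>
    obtain ⟨i⟩ := IsCofiltered.nonempty (C := I)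
    exact ⟨i, fun _ => 0, IsLocallyConstant.const _, fun x => by simp⟩
  | insert m s hm ih =>
    obtain ⟨i, g, hg, hgf⟩ := ih
    obtain ⟨i', V, hV, hVO⟩ := exists_clopen D c hc (hf.isClopen_fiber m)
    let a : IsCofiltered.min i i' ⟶ i := IsCofiltered.minToLeft _ _
    let a' : IsCofiltered.min i i' ⟶ i' := IsCofiltered.minToRight _ _
    let δ : ↥(D.obj i') → M := fun z => if z ∈ V then m else 0
    have hδ : IsLocallyConstant δ := fun t => by
      have : δ ⁻¹' t = (V ∩ {_z | m ∈ t}) ∪ (Vᶜ ∩ {_z | (0 : M) ∈ t}) := by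
        ext z
        by_cases hz : z ∈ V <;> simp [δ, hz]
      rw [this]
      exact (hV.2.inter isOpen_const).union (hV.compl.2.inter isOpen_const)
    refine ⟨IsCofiltered.min i i', fun z => g ((D.map a).base z) + δ ((D.map a').base z),
      (hg.comp_continuous (D.map a).continuous).comp₂ (hδ.comp_continuous (D.map a').continuous) (· + ·),
      fun x => ?_⟩
    simp only [π_base, hgf, δ, hVO, Set.mem_setOf_eq, Finset.mem_insert]
    by_cases h : f x = m
    · simp [h, hm]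
    · simp [h]

end Groth.Agent.Lib.ProEtLC.Limit
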