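import Groth.Agent.Lib.ProEtLC.Iso
import Groth.Agent.Lib.ProEtLC.Limit
import Groth.Agent.Lib.ProEt.EtPres
import Groth.Agent.Lib.ProEt.EpsColimit
import Mathlib.Algebra.Module.FinitePresentation
import Mathlib.LinearAlgebra.Finsupp.LinearCombination

/-!
Descent of charts of finite presentation from a pro-etale cover to an etale neighbourhood.
-/

set_option autoImplicit false
set_option linter.style.haveILetI false

universe u

open CategoryTheory CategoryTheory.Limits AlgebraicGeometry Opposite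

noncomputable section

namespace Groth.Agent.Lib.ProEtLC.Descend

set_option backward.isDefEq.respectTransparency.types false


open ProEt ProEt.EtPres Chart

variable {Λ : Type (u + 1)} [CommRing Λ] {X : Scheme.{u}}

/-- Base changes along surjections of affines are coverings. -/
lemma cover_mem {V W : X.ProEt} (g : V ⟶ W) [QuasiCompact g.left] [Surjective g.left] :
    Sieve.ofArrows (fun _ : PUnit.{1} => V) (fun _ => g) ∈ Scheme.ProEt.topology X W := by
  refine GrothendieckTopology.superset_covering _ ?_ (Basic.singleton_mem g)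
  rw [Sieve.generate_le_iff]
  rintro _ _ ⟨⟩
  exact Sieve.ofArrows_mk _ _ PUnit.unit

lemma qcqs_aux {Y Z : Scheme.{u}} (g : Y ⟶ Z) (hg : IsAffineHom g) (hc : CompactSpace ↥Z)
    (hs : QuasiSeparatedSpace ↥Z) : CompactSpace ↥Y ∧ QuasiSeparatedSpace ↥Y :=
  haveI := hg
  haveI : IsSeparated g := IsSeparated.of_isAffineHom g
  haveI := hc
  haveI := hs
  ⟨QuasiCompact.compactSpace_of_compactSpace g, quasiSeparatedSpace_of_quasiSeparated g⟩

/-- An affine pro-etale cover of an affine etale object, with a presentation. -/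
structure Setup (X : Scheme.{u}) where
  /-- the etale object -/
  U : X.Etale
  affU : IsAffine U.left
  /-- the cover -/
  R : X.ProEt
  affR : IsAffine R.left
  /-- the covering map -/
  a : R ⟶ (ProEtS.eps X).obj U
  surj : Surjective a.left
  /-- the presentation -/
  p : Pres R
  /-- a stage -/
  i₀ : p.I
  /-- the map of the stage -/
  f₀ : p.D.obj i₀ ⟶ U
  w₀ : p.π.app i₀ ≫ (ProEtS.eps X).map f₀ = a

namespace Setup

variable (S : Setup X) {A : X.ProEt} (α : A ⟶ (ProEtS.eps X).obj S.U)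

/-- The system. -/
abbrev D : S.p.I ⥤ X.ProEt := S.p.D ⋙ ProEtS.eps X

/-- The cone. -/
abbrev cone : Cone S.D := ⟨S.R, S.p.π⟩

/-- The base change to the first stage. -/
abbrev r : pullback α ((ProEtS.eps X).map S.f₀) ⟶ S.D.obj S.i₀ :=
  pullback.snd α ((ProEtS.eps X).map S.f₀)

/-- The base change of a stage. -/
abbrev Q (j : Over S.i₀) : X.ProEt := pullback (S.r α) (S.D.map j.hom)

/-- The projection to the base. -/
def prA (j : Over S.i₀) : S.Q α j ⟶ A :=
  pullback.fst (S.r α) (S.D.map j.hom) ≫ pullback.fst α ((ProEtS.eps X).map S.f₀)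

/-- The projection to the stage. -/
def prD (j : Over S.i₀) : S.Q α j ⟶ S.D.obj j.left := pullback.snd (S.r α) (S.D.map j.hom)

/-- The limit. -/
abbrev L : X.ProEt := pullback (S.r α) (S.p.π.app S.i₀)

/-- The projection of the limit to the base. -/
def lA : S.L α ⟶ A :=
  pullback.fst (S.r α) (S.p.π.app S.i₀) ≫ pullback.fst α ((ProEtS.eps X).map S.f₀)

/-- The projection of the limit to the cover. -/
def lR : S.L α ⟶ S.R := pullback.snd (S.r α) (S.p.π.app S.i₀)

/-- The projections of the limit. -/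
def lQ (j : Over S.i₀) : S.L α ⟶ S.Q α j := EpsColimit.basePi S.D S.cone (S.r α) j

/-- The transition maps. -/
def bm {j k : Over S.i₀} (f : j ⟶ k) : S.Q α j ⟶ S.Q α k := EpsColimit.baseMap S.D (S.r α) f

lemma prA_w (j : Over S.i₀) :
    S.prA α j ≫ α = S.prD α j ≫ S.D.map j.hom ≫ (ProEtS.eps X).map S.f₀ := by
  rw [prA, prD, Category.assoc, pullback.condition, ← Category.assoc, pullback.condition, Category.assoc]

lemma lA_w : S.lA α ≫ α = S.lR α ≫ S.a := by
  rw [lA, lR, Category.assoc, pullback.condition, ← Category.assoc, pullback.condition, Category.assoc, S.w₀]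

lemma lQ_prA (j : Over S.i₀) : S.lQ α j ≫ S.prA α j = S.lA α :=
  (Category.assoc _ _ _).symm.trans (congrArg (· ≫ pullback.fst α ((ProEtS.eps X).map S.f₀))
    (EpsColimit.basePi_fst S.D S.cone (S.r α) j))

lemma lQ_prD (j : Over S.i₀) : S.lQ α j ≫ S.prD α j = S.lR α ≫ S.p.π.app j.left :=
  EpsColimit.basePi_snd S.D S.cone (S.r α) j

lemma bm_prA {j k : Over S.i₀} (f : j ⟶ k) : S.bm α f ≫ S.prA α k = S.prA α j :=
  (Category.assoc _ _ _).symm.trans (congrArg (· ≫ pullback.fst α ((ProEtS.eps X).map S.f₀))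
    (EpsColimit.baseMap_fst S.D (S.r α) f))

lemma bm_prD {j k : Over S.i₀} (f : j ⟶ k) : S.bm α f ≫ S.prD α k = S.prD α j ≫ S.D.map f.left :=
  EpsColimit.baseMap_snd S.D (S.r α) f

lemma lQ_bm {j k : Over S.i₀} (f : j ⟶ k) : S.lQ α j ≫ S.bm α f = S.lQ α k :=
  (EpsColimit.baseChangeCone S.D S.cone (S.r α)).w f

lemma hom_ext {Z : X.ProEt} {j : Over S.i₀} {g g' : Z ⟶ S.Q α j} (hA : g ≫ S.prA α j = g' ≫ S.prA α j)
    (hD : g ≫ S.prD α j = g' ≫ S.prD α j) : g = g' := by
  refine pullback.hom_ext (pullback.hom_ext ?_ ?_) hD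
  · rw [Category.assoc, Category.assoc]
    exact hA
  · rw [Category.assoc, Category.assoc, pullback.condition, ← Category.assoc, ← Category.assoc]
    exact congrArg (· ≫ S.D.map j.hom) hD

lemma exists_lift {Z : X.ProEt} (j : Over S.i₀) (x : Z ⟶ A) (y : Z ⟶ S.D.obj j.left)
    (h : x ≫ α = y ≫ S.D.map j.hom ≫ (ProEtS.eps X).map S.f₀) :
    ∃ l : Z ⟶ S.Q α j, l ≫ S.prA α j = x ∧ l ≫ S.prD α j = y := by
  let u : Z ⟶ pullback α ((ProEtS.eps X).map S.f₀) :=
    pullback.lift x (y ≫ S.D.map j.hom) (by rw [h, Category.assoc])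
  refine ⟨pullback.lift u y (pullback.lift_snd _ _ _), ?_, pullback.lift_snd _ _ _⟩
  rw [prA, ← Category.assoc, pullback.lift_fst]
  exact pullback.lift_fst _ _ _

lemma qc_α [IsAffine A.left] : QuasiCompact α.left ∧ IsAffineHom α.left := by
  haveI : IsAffine ((ProEtS.eps X).obj S.U).left := S.affU
  exact ⟨inferInstance, inferInstance⟩

lemma isAffineHom_r [IsAffine A.left] : IsAffineHom (S.r α).left :=
  MorphismProperty.of_isPullback (EpsColimit.isPullback_left α ((ProEtS.eps X).map S.f₀)) (S.qc_α α).2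

lemma isAffineHom_prD [IsAffine A.left] (j : Over S.i₀) : IsAffineHom (S.prD α j).left :=
  MorphismProperty.of_isPullback (EpsColimit.isPullback_left (S.r α) (S.D.map j.hom)) (S.isAffineHom_r α)

lemma surjective_prD [Surjective α.left] (j : Over S.i₀) : Surjective (S.prD α j).left :=
  haveI : Surjective (S.r α).left :=
    MorphismProperty.of_isPullback (EpsColimit.isPullback_left α ((ProEtS.eps X).map S.f₀))
      (inferInstance : Surjective α.left)
  MorphismProperty.of_isPullback (EpsColimit.isPullback_left (S.r α) (S.D.map j.hom))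
    (inferInstance : Surjective (S.r α).left)

lemma π_w {i j : S.p.I} (b : i ⟶ j) : S.p.π.app i ≫ S.D.map b = S.p.π.app j := S.p.π_w b

/-- The diagram of schemes. -/
abbrev sch : Over S.i₀ ⥤ Scheme.{u} := EpsColimit.schemeDiagram S.D (S.r α)

lemma qcqs [IsAffine A.left] (j : Over S.i₀) :
    CompactSpace ↥((S.sch α).obj j) ∧ QuasiSeparatedSpace ↥((S.sch α).obj j) :=
  qcqs_aux (S.prD α j).left (S.isAffineHom_prD α j) (S.p.qc j.left) (S.p.qs j.left)

lemma affine_map {j k : Over S.i₀} (f : j ⟶ k) : IsAffineHom ((S.sch α).map f) :=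
  haveI : ∀ (i j : S.p.I) (b : i ⟶ j), IsAffineHom (S.D.map b).left := fun _ _ b => S.p.affHom b
  EpsColimit.isAffineHom_baseChange S.D (S.r α) f

/-- The limit of the diagram of schemes. -/
def isLimit : IsLimit ((Scheme.ProEt.forget X ⋙ Over.forget X).mapCone
    (EpsColimit.baseChangeCone S.D S.cone (S.r α))) :=
  EpsColimit.isLimitBaseChange S.D S.cone (S.r α) S.p.isLimit

variable {G : EtModW.ModP Λ X} {M : Type (u + 1)} [AddCommGroup M] [Module Λ M]
  {φA : M →ₗ[Λ] G.obj.obj (op A)}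

/-- A section vanishing on the limit vanishes at a finite stage. -/
theorem exists_stage_zero [IsAffine A.left] (h : IsChart G φA) (j : Over S.i₀)
    (z : G.obj.obj (op (S.Q α j))) (hz : res G (S.lQ α j) z = 0) :
    ∃ (k : Over S.i₀) (f : k ⟶ j), res G (S.bm α f) z = 0 := by
  haveI : ∀ {i j : Over S.i₀} (f : i ⟶ j), IsAffineHom ((S.sch α).map f) := fun f => S.affine_map α f
  haveI : ∀ i, CompactSpace ↥((S.sch α).obj i) := fun i => (S.qcqs α i).1
  let v := val (S.prA α j) z h
  let Z : ((S.sch α).obj j).Opens :=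
    ⟨{q | v q = 0}, (isLocallyConstant_val (S.prA α j) z h).isOpen_fiber 0⟩
  obtain ⟨k, f, hk⟩ := exists_map_eq_top (S.sch α) _ (S.isLimit α) Z
    (TopologicalSpace.Opens.ext (Set.eq_univ_of_forall fun x => by
      change val (S.prA α j) z h ((S.lQ α j).left.base x) = 0
      rw [← val_res (S.prA α j) z h (S.lQ α j) x, hz, val_zero]))
  refine ⟨k, f, eq_zero_of_val (S.bm α f ≫ S.prA α j) _ h fun q => ?_⟩
  rw [val_res]
  exact hk.ge (Set.mem_univ q)

/-- A section over the limit comes from a finite stage. -/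
theorem exists_stage_eq [IsAffine A.left] (h : IsChart G φA) (y : G.obj.obj (op (S.L α))) :
    ∃ (j : Over S.i₀) (z : G.obj.obj (op (S.Q α j))), res G (S.lQ α j) z = y := by
  haveI : ∀ {i j : Over S.i₀} (f : i ⟶ j), IsAffineHom ((S.sch α).map f) := fun f => S.affine_map α f
  haveI : ∀ i, CompactSpace ↥((S.sch α).obj i) := fun i => (S.qcqs α i).1
  haveI : ∀ i, QuasiSeparatedSpace ↥((S.sch α).obj i) := fun i => (S.qcqs α i).2
  obtain ⟨j, g, hg, hgf⟩ := Limit.exists_locallyConstant (S.sch α) _ (S.isLimit α)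
    (isLocallyConstant_val (S.lA α) y h)
  obtain ⟨z, hz⟩ := exists_val_eq (S.prA α j) h hg
  refine ⟨j, z, eq_of_val (S.lA α) _ h fun x => ?_⟩
  refine Eq.trans ?_ (hgf x)
  refine ((congrArg (fun b => val b (res G (S.lQ α j) z) h x) (S.lQ_prA α j)).symm).trans ?_
  rw [val_res]
  exact hz _

end Setup

variable {G : EtModW.ModP Λ X} {M : Type (u + 1)} [AddCommGroup M] [Module Λ M] (S : Setup X)
  {φ : M →ₗ[Λ] G.obj.obj (op S.R)}

/-- A section of a stage vanishing on the cover vanishes at a later stage. -/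
theorem exists_zero (h : IsChart G φ) (j : Over S.i₀) (τ : G.obj.obj (op (S.D.obj j.left)))
    (hτ : res G (S.p.π.app j.left) τ = 0) :
    ∃ (k : Over S.i₀) (f : k ⟶ j), res G (S.D.map f.left) τ = 0 := by
  haveI := S.affR
  haveI := S.surj
  obtain ⟨k, f, hk⟩ := S.exists_stage_zero S.a h j (res G (S.prD S.a j) τ) (by
    rw [res_res, S.lQ_prD, ← res_res, hτ, map_zero])
  refine ⟨k, f, ?_⟩
  haveI := S.isAffineHom_prD S.a k
  haveI := S.surjective_prD S.a k
  refine eq_of_cover G (cover_mem (S.prD S.a k)) fun _ => ?_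
  rw [map_zero, res_res, ← S.bm_prD, ← res_res]
  exact hk

/-- A section on the cover descends to a stage. -/
theorem exists_descend (h : IsChart G φ) (y : G.obj.obj (op S.R)) :
    ∃ (j : Over S.i₀) (τ : G.obj.obj (op (S.D.obj j.left))), res G (S.p.π.app j.left) τ = y := by
  haveI := S.affR
  haveI := S.surj
  obtain ⟨j, t, ht⟩ := S.exists_stage_eq S.a h (res G (S.lR S.a) y)
  let A₂ : X.ProEt := pullback S.a S.a
  let α₂ : A₂ ⟶ (ProEtS.eps X).obj S.U := pullback.fst S.a S.a ≫ S.a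
  haveI : IsAffine A₂.left := by
    haveI := (S.qc_α S.a).2
    haveI : IsAffineHom (pullback.fst S.a S.a).left :=
      MorphismProperty.of_isPullback (EpsColimit.isPullback_left S.a S.a).flip
        (inferInstance : IsAffineHom S.a.left)
    exact isAffine_of_isAffineHom (pullback.fst S.a S.a).left
  obtain ⟨b₁, hb₁A, hb₁D⟩ := S.exists_lift S.a j (S.prA α₂ j ≫ pullback.fst S.a S.a) (S.prD α₂ j)
    ((Category.assoc _ _ _).trans (S.prA_w α₂ j))
  obtain ⟨b₂, hb₂A, hb₂D⟩ := S.exists_lift S.a j (S.prA α₂ j ≫ pullback.snd S.a S.a) (S.prD α₂ j)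
    ((Category.assoc _ _ _).trans ((congrArg (S.prA α₂ j ≫ ·) pullback.condition.symm).trans (S.prA_w α₂ j)))
  have hlim : ∀ (b : S.Q α₂ j ⟶ S.Q S.a j) (pr : A₂ ⟶ S.R), b ≫ S.prA S.a j = S.prA α₂ j ≫ pr →
      b ≫ S.prD S.a j = S.prD α₂ j → pr ≫ S.a = α₂ →
      res G (S.lQ α₂ j) (res G b t) = res G (S.lR α₂) y := by
    intro b pr hA hD hpr
    let bL : S.L α₂ ⟶ S.L S.a := pullback.lift
      (pullback.lift (S.lA α₂ ≫ pr) (S.lR α₂ ≫ S.p.π.app S.i₀)
        (by rw [Category.assoc, hpr, S.lA_w, Category.assoc, S.w₀]))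
      (S.lR α₂) (pullback.lift_snd _ _ _)
    have hbA : bL ≫ S.lA S.a = S.lA α₂ ≫ pr := by
      rw [Setup.lA, ← Category.assoc, pullback.lift_fst, pullback.lift_fst]
    have hbR : bL ≫ S.lR S.a = S.lR α₂ := pullback.lift_snd _ _ _
    have e : S.lQ α₂ j ≫ b = bL ≫ S.lQ S.a j := by
      refine S.hom_ext S.a ?_ ?_
      · rw [Category.assoc, hA, ← Category.assoc, S.lQ_prA, Category.assoc, S.lQ_prA, hbA]
      · rw [Category.assoc, hD, S.lQ_prD, Category.assoc, S.lQ_prD, ← Category.assoc bL, hbR]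
    rw [res_res, e, ← res_res, ht, res_res, hbR]
  obtain ⟨k, f, hk⟩ := S.exists_stage_zero α₂ (h.restrict (pullback.fst S.a S.a)) j
    (res G b₁ t - res G b₂ t) (by
      rw [map_sub, hlim b₁ _ hb₁A hb₁D rfl, hlim b₂ _ hb₂A hb₂D pullback.condition.symm, sub_self])
  haveI := S.isAffineHom_prD S.a k
  haveI := S.surjective_prD S.a k
  obtain ⟨τ, hτ, -⟩ := (Presieve.isSheafFor_arrows_iff (G.obj ⋙ forget (ModuleCat.{u + 1} Λ)) _).mp
    ((Presieve.isSheafFor_iff_generate _).mpr (isSheaf_forget G _ (cover_mem (S.prD S.a k))))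
    (fun _ => res G (S.bm S.a f) t) fun _ _ Z g₁ g₂ hg => by
      obtain ⟨l, hlA, hlD⟩ := S.exists_lift α₂ k
        (pullback.lift (g₁ ≫ S.prA S.a k) (g₂ ≫ S.prA S.a k) (by
          rw [Category.assoc, Category.assoc, S.prA_w, ← Category.assoc, hg, Category.assoc]))
        (g₁ ≫ S.prD S.a k) (by
          rw [← Category.assoc, pullback.lift_fst, Category.assoc, S.prA_w, Category.assoc])
      have hl := congrArg (res G l) hk
      rw [map_sub, map_sub, map_zero, sub_eq_zero, res_res, res_res, res_res, res_res] at hl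
      have key : ∀ (g : Z ⟶ S.Q S.a k) (b : S.Q α₂ j ⟶ S.Q S.a j) (pr : A₂ ⟶ S.R),
          b ≫ S.prA S.a j = S.prA α₂ j ≫ pr → b ≫ S.prD S.a j = S.prD α₂ j →
          l ≫ S.prA α₂ k ≫ pr = g ≫ S.prA S.a k → l ≫ S.prD α₂ k = g ≫ S.prD S.a k →
          (l ≫ S.bm α₂ f) ≫ b = g ≫ S.bm S.a f := by
        intro g b pr hA hD h1 h2
        refine S.hom_ext S.a ?_ ?_
        · rw [Category.assoc, hA, Category.assoc, ← Category.assoc (S.bm α₂ f), S.bm_prA, h1,
            Category.assoc, S.bm_prA]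
        · rw [Category.assoc, hD, Category.assoc, S.bm_prD, ← Category.assoc, h2, Category.assoc,
            Category.assoc, S.bm_prD]
      have k₁ := key g₁ b₁ _ hb₁A hb₁D (by rw [← Category.assoc, hlA, pullback.lift_fst]) hlD
      have k₂ := key g₂ b₂ _ hb₂A hb₂D (by rw [← Category.assoc, hlA, pullback.lift_snd]) (hlD.trans hg)
      rw [k₁, k₂] at hl
      change res G g₁ (res G (S.bm S.a f) t) = res G g₂ (res G (S.bm S.a f) t)
      rw [res_res, res_res]
      exact hl
  let δ : S.R ⟶ S.L S.a :=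
    pullback.lift (pullback.lift (𝟙 S.R) (S.p.π.app S.i₀) ((Category.id_comp _).trans S.w₀.symm)) (𝟙 S.R)
      ((pullback.lift_snd _ _ _).trans (Category.id_comp _).symm)
  have hδ : δ ≫ S.lR S.a = 𝟙 _ := pullback.lift_snd _ _ _
  refine ⟨k, τ, ?_⟩
  have hτ' : res G (S.prD S.a k) τ = res G (S.bm S.a f) t := hτ PUnit.unit
  calc res G (S.p.π.app k.left) τ = res G δ (res G (S.lQ S.a k) (res G (S.prD S.a k) τ)) := by
        rw [res_res, res_res, Category.assoc, S.lQ_prD, ← Category.assoc, hδ, Category.id_comp]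
    _ = res G δ (res G (S.lR S.a) y) := by rw [hτ', res_res G (S.bm S.a f) (S.lQ S.a k) t, S.lQ_bm, ht]
    _ = y := by rw [res_res, hδ, res_id]

/-- A finitely presented chart descends to a linear map. -/
theorem exists_linear [Module.FinitePresentation Λ M] (h : IsChart G φ) :
    ∃ (j : Over S.i₀) (ψ : M →ₗ[Λ] G.obj.obj (op (S.D.obj j.left))),
      ∀ m, res G (S.p.π.app j.left) (ψ m) = φ m := by
  classical
  obtain ⟨n, K, e, ⟨R', hR'⟩⟩ := Module.FinitePresentation.exists_fin Λ M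
  let q : (Fin n → Λ) →ₗ[Λ] M := e.symm.toLinearMap ∘ₗ K.mkQ
  choose jj τ hτ using fun i => exists_descend S h (φ (q (Pi.single i 1)))
  obtain ⟨j₀, hj₀⟩ := IsCofiltered.inf_objs_exists (Finset.univ.image jj)
  let fj : ∀ i, j₀ ⟶ jj i := fun i =>
    (hj₀ (Finset.mem_image_of_mem jj (Finset.mem_univ i))).some
  let Lc : (Fin n → Λ) →ₗ[Λ] G.obj.obj (op (S.D.obj j₀.left)) :=
    Fintype.linearCombination Λ fun i => res G (S.D.map (fj i).left) (τ i)
  have hL : ∀ c, res G (S.p.π.app j₀.left) (Lc c) = φ (q c) := fun c => by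
    suffices e' : res G (S.p.π.app j₀.left) ∘ₗ Lc = φ ∘ₗ q from LinearMap.congr_fun e' c
    refine LinearMap.pi_ext' fun i => LinearMap.ext_ring ?_
    simp only [LinearMap.comp_apply, LinearMap.single_apply, Lc, Fintype.linearCombination_apply_single,
      one_smul]
    rw [res_res, S.π_w]
    exact hτ i
  choose kk ff hkk using fun c : R' => exists_zero S h j₀ (Lc c.1) (by
    rw [hL]
    have hc : (c.1 : Fin n → Λ) ∈ K := hR' ▸ Submodule.subset_span c.2
    change φ (e.symm (K.mkQ c.1)) = 0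
    rw [Submodule.mkQ_apply, (Submodule.Quotient.mk_eq_zero K).mpr hc, map_zero, map_zero])
  obtain ⟨o, ho⟩ := IsCofiltered.inf_objs_exists
    (insert (Over.mk (𝟙 j₀)) (Finset.univ.image fun c : R' => Over.mk (ff c)))
  have hz : ∀ c : R', res G (S.D.map o.hom.left) (Lc c.1) = 0 := fun c => by
    obtain ⟨g⟩ := ho (Finset.mem_insert_of_mem (Finset.mem_image_of_mem (fun c : R' => Over.mk (ff c))
      (Finset.mem_univ c)))
    have hg : g.left ≫ ff c = o.hom := Over.w g
    rw [← hg, Over.comp_left, S.D.map_comp, ← res_res, hkk, map_zero]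
  let Lo : (Fin n → Λ) →ₗ[Λ] G.obj.obj (op (S.D.obj o.left.left)) := res G (S.D.map o.hom.left) ∘ₗ Lc
  have hK : K ≤ LinearMap.ker Lo := by
    rw [← hR', Submodule.span_le]
    intro c hc
    exact hz ⟨c, hc⟩
  refine ⟨o.left, K.liftQ Lo hK ∘ₗ e.toLinearMap, fun m => ?_⟩
  obtain ⟨c, hc⟩ := Submodule.mkQ_surjective K (e m)
  change res G (S.p.π.app o.left.left) (K.liftQ Lo hK (e m)) = φ m
  rw [← hc, Submodule.mkQ_apply, Submodule.liftQ_apply]
  change res G (S.p.π.app o.left.left) (res G (S.D.map o.hom.left) (Lc c)) = φ m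
  rw [res_res, S.π_w, hL]
  change φ (e.symm (K.mkQ c)) = φ m
  rw [hc, LinearEquiv.symm_apply_apply]

omit S in
/-- The transition between two charts at a point is bijective. -/
theorem bijective_transition {P P' L : X.ProEt} {M' : Type (u + 1)} [AddCommGroup M'] [Module Λ M']
    {φ₁ : M →ₗ[Λ] G.obj.obj (op P)} {φ₂ : M' →ₗ[Λ] G.obj.obj (op P')}
    (h₁ : IsChart G φ₁) (h₂ : IsChart G φ₂) (b₁ : L ⟶ P) (b₂ : L ⟶ P') (x : ↥L.left) :
    Function.Bijective fun m => val b₁ (res G b₂ (φ₂ m)) h₁ x := by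
  refine ⟨fun m m' e => ?_, fun n => ?_⟩
  · obtain ⟨O, hO, hOy⟩ := exists_nhd_eq_chart b₁ (res G b₂ (φ₂ (m - m'))) h₁ x
    have hv : val b₁ (res G b₂ (φ₂ (m - m'))) h₁ x = 0 := by
      rw [map_sub, map_sub, val_sub]
      exact sub_eq_zero.mpr e
    rw [hv, map_zero, map_zero, res_res] at hOy
    have h0 := val_res_chart (Decomp.incl L O ≫ b₂) h₂ (m - m') ⟨x, hO⟩
    rw [hOy, val_zero] at h0
    exact sub_eq_zero.mp h0.symm
  · refine ⟨val b₂ (res G b₁ (φ₁ n)) h₂ x, ?_⟩
    obtain ⟨O, hO, hOy⟩ := exists_nhd_eq_chart b₂ (res G b₁ (φ₁ n)) h₂ x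
    rw [res_res] at hOy
    have h0 := val_res_chart (Decomp.incl L O ≫ b₁) h₁ n ⟨x, hO⟩
    rw [hOy, ← res_res G b₂] at h0
    exact (val_res b₁ _ h₁ (Decomp.incl L O) ⟨x, hO⟩).symm.trans h0

/-- A finitely presented chart descends to a chart. -/
theorem exists_chart [Module.FinitePresentation Λ M] (h : IsChart G φ) :
    ∃ (j : Over S.i₀) (ψ : M →ₗ[Λ] G.obj.obj (op (S.D.obj j.left))),
      IsChart G ψ ∧ ∀ m, res G (S.p.π.app j.left) (ψ m) = φ m := by
  haveI := S.affR
  haveI := S.surj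
  obtain ⟨j, ψ, hψ⟩ := exists_linear S h
  let A : ↥(S.Q S.a j).left → M →ₗ[Λ] M := fun q =>
    { toFun := fun m => val (S.prA S.a j) (res G (S.prD S.a j) (ψ m)) h q
      map_add' := fun m m' => by rw [map_add, map_add, val_add]
      map_smul' := fun c m => by rw [map_smul, map_smul, val_smul]; rfl }
  obtain ⟨n, gen, hgen⟩ := Module.Finite.exists_fin (R := Λ) (M := M)
  have hA : IsLocallyConstant A := by
    refine IsLocallyConstant.iff_isOpen_fiber_apply.mpr fun q => ?_
    have : A ⁻¹' {A q} = ⋂ i, {q' | A q' (gen i) = A q (gen i)} := by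
      ext q'
      simp only [Set.mem_preimage, Set.mem_singleton_iff, Set.mem_iInter, Set.mem_setOf_eq]
      exact ⟨fun e i => by rw [e], fun e => LinearMap.ext_on_range hgen e⟩
    rw [this]
    exact isOpen_iInter_of_finite fun i =>
      (isLocallyConstant_val (S.prA S.a j) (res G (S.prD S.a j) (ψ (gen i))) h).isOpen_fiber _
  haveI : ∀ {i j : Over S.i₀} (f : i ⟶ j), IsAffineHom ((S.sch S.a).map f) := fun f => S.affine_map S.a f
  haveI : ∀ i, CompactSpace ↥((S.sch S.a).obj i) := fun i => (S.qcqs S.a i).1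
  let B : ((S.sch S.a).obj j).Opens :=
    ⟨A ⁻¹' {f | Function.Bijective f}, hA {f | Function.Bijective f}⟩
  obtain ⟨k, f, hk⟩ := exists_map_eq_top (S.sch S.a) _ (S.isLimit S.a) B
    (TopologicalSpace.Opens.ext (Set.eq_univ_of_forall fun x => by
      change Function.Bijective (A ((S.lQ S.a j).left.base x))
      convert bijective_transition h h (S.lA S.a) (S.lR S.a) x using 1
      funext m
      refine ((val_res (S.prA S.a j) (res G (S.prD S.a j) (ψ m)) h (S.lQ S.a j) x).symm).trans ?_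
      rw [res_res, S.lQ_prD, ← res_res, hψ]
      exact congrArg (fun b => val b (res G (S.lR S.a) (φ m)) h x) (S.lQ_prA S.a j)))
  let ψ' : M →ₗ[Λ] G.obj.obj (op (S.D.obj k.left)) := res G (S.D.map f.left) ∘ₗ ψ
  have hψ' : ∀ (q : ↥(S.Q S.a k).left) (m : M),
      val (S.prA S.a k) (res G (S.prD S.a k) (ψ' m)) h q = A ((S.bm S.a f).left.base q) m := fun q m => by
    refine Eq.trans ?_ (val_res (S.prA S.a j) (res G (S.prD S.a j) (ψ m)) h (S.bm S.a f) q)
    change val (S.prA S.a k) (res G (S.prD S.a k) (res G (S.D.map f.left) (ψ m))) h q = _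
    rw [res_res, ← S.bm_prD, ← res_res]
    exact congrArg (fun b => val b (res G (S.bm S.a f) (res G (S.prD S.a j) (ψ m))) h q) (S.bm_prA S.a f).symm
  have hbij : ∀ q : ↥(S.Q S.a k).left, Function.Bijective (A ((S.bm S.a f).left.base q)) :=
    fun q => hk.ge (Set.mem_univ q)
  haveI := S.isAffineHom_prD S.a k
  haveI := S.surjective_prD S.a k
  refine ⟨k, ψ', ⟨fun W _ hwc b m hne h0 => ?_, fun W _ hwc b y w => ?_⟩, fun m => ?_⟩
  · obtain ⟨w⟩ := hne
    obtain ⟨d, hd⟩ := (S.prD S.a k).left.surjective (b.left.base w)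
    obtain ⟨T, -, htd⟩ := EpsColimit.exists_point b (S.prD S.a k) w d hd.symm
    let g := pullback.snd b (S.prD S.a k)
    have h1 : res G g (res G (S.prD S.a k) (ψ' m)) = 0 := by
      rw [res_res, ← pullback.condition, ← res_res, h0, map_zero]
    have h2 := val_res (S.prA S.a k) (res G (S.prD S.a k) (ψ' m)) h g T
    rw [h1, val_zero, hψ'] at h2
    exact (hbij _).1 (h2.symm.trans (map_zero _).symm)
  · haveI : QuasiCompact (pullback.fst b (S.prD S.a k)).left :=
      MorphismProperty.of_isPullback (EpsColimit.isPullback_left b (S.prD S.a k)).flip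
        (inferInstance : QuasiCompact (S.prD S.a k).left)
    haveI : Surjective (pullback.fst b (S.prD S.a k)).left :=
      MorphismProperty.of_isPullback (EpsColimit.isPullback_left b (S.prD S.a k)).flip
        (inferInstance : Surjective (S.prD S.a k).left)
    obtain ⟨N, V, -, -, hu, hV⟩ := Decomp.exists_decomposition hwc
      (Basic.singleton_mem (pullback.fst b (S.prD S.a k)))
    obtain ⟨i, hi⟩ := Set.mem_iUnion.mp (hu.ge (Set.mem_univ w))
    obtain ⟨_, l, _, ⟨⟩, hl⟩ := hV i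
    let c : Decomp.piece W (V i) ⟶ S.Q S.a k := l ≫ pullback.snd b (S.prD S.a k)
    let w' : ↥(Decomp.piece W (V i)).left := ⟨w, hi⟩
    have hc : c ≫ S.prD S.a k = Decomp.incl W (V i) ≫ b := by
      rw [← hl, Category.assoc, Category.assoc, pullback.condition]
    let y' := res G (Decomp.incl W (V i)) y
    obtain ⟨m, hm⟩ := (hbij (c.left.base w')).2 (val (c ≫ S.prA S.a k) y' h w')
    let z' := res G (Decomp.incl W (V i) ≫ b) (ψ' m)
    have hz' : ∀ z, val (c ≫ S.prA S.a k) z' h z = A ((S.bm S.a f).left.base (c.left.base z)) m := fun z => by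
      rw [← hψ', ← val_res]
      exact congrArg (fun s => val (c ≫ S.prA S.a k) s h z) (by rw [res_res, hc])
    have hop : IsOpen {z : ↥(Decomp.piece W (V i)).left |
        val (c ≫ S.prA S.a k) y' h z = val (c ≫ S.prA S.a k) z' h z} := by
      exact ((isLocallyConstant_val (c ≫ S.prA S.a k) y' h).comp₂
        (isLocallyConstant_val (c ≫ S.prA S.a k) z' h) fun s t => s = t) {p | p}
    let T : (V i).toScheme.Opens := ⟨_, hop⟩
    have hwT : w' ∈ T := by
      change val (c ≫ S.prA S.a k) y' h w' = val (c ≫ S.prA S.a k) z' h w'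
      rw [hz', hm]
    let O : W.left.Opens := (V i).ι ''ᵁ T
    obtain ⟨l', hl'⟩ := Chart.exists_lift (V i) (Decomp.incl W O) (fun z => by
      obtain ⟨t, -, ht⟩ := z.2
      exact Eq.mp (congrArg (· ∈ V i) ht) t.2)
    refine ⟨O, ⟨w', hwT, rfl⟩, m, ?_⟩
    have e : res G l' y' = res G l' z' := eq_of_val (l' ≫ c ≫ S.prA S.a k) _ h fun z => by
      rw [val_res, val_res]
      obtain ⟨t, ht, htz⟩ := z.2
      have he : (l'.left.base z : ↥(V i).toScheme) = t := Subtype.ext
        ((congrArg (fun g : Decomp.piece W O ⟶ W => g.left.base z) hl').trans htz.symm)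
      exact Eq.mpr (congrArg (fun s => val (c ≫ S.prA S.a k) y' h s = val (c ≫ S.prA S.a k) z' h s) he) ht
    rw [res_res, res_res, hl', ← Category.assoc, hl'] at e
    exact e
  · change res G (S.p.π.app k.left) (res G (S.D.map f.left) (ψ m)) = φ m
    rw [res_res, S.π_w, hψ]

end Groth.Agent.Lib.ProEtLC.Descend
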