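import Groth.Agent.Lib.ProEtLC.Chart
import Groth.Agent.Lib.ProEt.EpsMod
import Groth.Agent.H88.EtMod.LCChart
import Mathlib.CategoryTheory.Sites.Over

/-!
Charts and constant sheaves on the localized pro-etale sites; charts of pullbacks from the etale site.
-/

set_option autoImplicit false
set_option linter.style.haveILetI false

universe u

open CategoryTheory CategoryTheory.Limits AlgebraicGeometry Opposite

noncomputable section

namespace Groth.Agent.Lib.ProEtLC.Iso

set_option backward.isDefEq.respectTransparency.types false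

open ProEt Chart

attribute [local instance] ProEt.Continuity.epsCont

variable {Λ : Type (u + 1)} [CommRing Λ] {X : Scheme.{u}} {G : EtModW.ModP Λ X} {P : X.ProEt}
  {M : Type (u + 1)} [AddCommGroup M] [Module Λ M]

/-- The map of presheaves on the localized site given by a chart. -/
def chartHom (φ : M →ₗ[Λ] G.obj.obj (op P)) :
    (Functor.const (Over P)ᵒᵖ).obj (ModuleCat.of Λ M) ⟶ (G.over P).obj where
  app W := ModuleCat.ofHom (res G W.unop.hom ∘ₗ φ)
  naturality {W W'} g := by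
    ext m
    change res G W'.unop.hom (φ m) = res G g.unop.left (res G W.unop.hom (φ m))
    rw [res_res, Over.w]

/-- A chart gives an isomorphism with a constant sheaf on the localized site. -/
theorem nonempty_iso {φ : M →ₗ[Λ] G.obj.obj (op P)} (h : IsChart G φ) :
    Nonempty (G.over P ≅ (constantSheaf ((Scheme.ProEt.topology X).over P) (ModuleCat.{u + 1} Λ)).obj
      (ModuleCat.of Λ M)) := by
  let J := (Scheme.ProEt.topology X).over P
  let τ := chartHom φ
  haveI hinj : Presheaf.IsLocallyInjective J τ := by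
    refine ⟨fun {W} m m' hm => (GrothendieckTopology.mem_over_iff _ _).2 ?_⟩
    rcases isEmpty_or_nonempty ↥W.unop.left.left with hW | ⟨⟨q⟩⟩
    · exact GrothendieckTopology.superset_covering _ bot_le (Scheme.ProEt.bot_mem_topology W.unop.left)
    · obtain ⟨R, hR, hwc, r, x, -, -⟩ := exists_wc_at W.unop.left ⊤ (q := q) trivial
      haveI := hR
      have h0 : res G (r ≫ W.unop.hom) (φ m) = res G (r ≫ W.unop.hom) (φ m') := by
        rw [← res_res, ← res_res]
        exact congrArg (res G r) hm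
      have hmm : m = m' := sub_eq_zero.mp
        (h.inj R hwc (r ≫ W.unop.hom) (m - m') ⟨x⟩ (by rw [map_sub, map_sub, h0, sub_self]))
      subst hmm
      exact GrothendieckTopology.superset_covering _ (fun _ _ _ => (Sieve.overEquiv_iff _ _).2 rfl)
        ((Scheme.ProEt.topology X).top_mem W.unop.left)
  haveI hsurj : Presheaf.IsLocallySurjective J τ := by
    refine ⟨fun {W} s => (GrothendieckTopology.mem_over_iff _ _).2 ?_⟩
    choose O hO hs using fun q => exists_nhd_eq_chart W.hom s h q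
    refine GrothendieckTopology.superset_covering _ ?_ (pieces_mem O fun q => ⟨q, hO q⟩)
    rw [Sieve.ofArrows, Sieve.generate_le_iff]
    rintro _ _ ⟨q⟩
    exact (Sieve.overEquiv_iff _ _).2 ⟨_, (hs q).symm⟩
  have hW : J.W τ := (J.W_iff_isLocallyBijective τ).2 ⟨hinj, hsurj⟩
  haveI : IsIso ((presheafToSheaf J (ModuleCat.{u + 1} Λ)).map τ) := (J.W_iff τ).1 hW
  haveI : IsIso ((sheafificationAdjunction J (ModuleCat.{u + 1} Λ)).counit.app (G.over P)) := inferInstance
  exact ⟨(asIso ((presheafToSheaf J (ModuleCat.{u + 1} Λ)).map τ) ≪≫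
    asIso ((sheafificationAdjunction J (ModuleCat.{u + 1} Λ)).counit.app (G.over P))).symm⟩

/-- An isomorphism with a constant sheaf gives a chart. -/
theorem exists_isChart (e : G.over P ≅
    (constantSheaf ((Scheme.ProEt.topology X).over P) (ModuleCat.{u + 1} Λ)).obj (ModuleCat.of Λ M)) :
    ∃ φ : M →ₗ[Λ] G.obj.obj (op P), IsChart G φ := by
  let J := (Scheme.ProEt.topology X).over P
  let Pc : (Over P)ᵒᵖ ⥤ ModuleCat.{u + 1} Λ := (Functor.const _).obj (ModuleCat.of Λ M)
  let η : Pc ⟶ ((constantSheaf J (ModuleCat.{u + 1} Λ)).obj (ModuleCat.of Λ M)).obj := toSheafify J Pc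
  let τ : Pc ⟶ (G.over P).obj := η ≫ e.inv.hom
  haveI : IsIso e.inv.hom := inferInstanceAs (IsIso ((sheafToPresheaf _ _).map e.inv))
  haveI : Sheaf.IsLocallySurjective e.inv := inferInstance
  haveI : Sheaf.IsLocallyInjective e.inv := inferInstance
  haveI hsurj : Presheaf.IsLocallySurjective J τ := by
    haveI : Presheaf.IsLocallySurjective J η :=
      inferInstanceAs (Presheaf.IsLocallySurjective J (toSheafify J Pc))
    exact Presheaf.isLocallySurjective_comp J η e.inv.hom
  haveI hinj : Presheaf.IsLocallyInjective J τ := by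
    haveI : Presheaf.IsLocallyInjective J η :=
      inferInstanceAs (Presheaf.IsLocallyInjective J (toSheafify J Pc))
    exact Presheaf.isLocallyInjective_comp J η e.inv.hom
  let φ : M →ₗ[Λ] G.obj.obj (op P) := (τ.app (op (Over.mk (𝟙 P)))).hom
  have hφ : ∀ {V : X.ProEt} (g : V ⟶ P) (m : M), τ.app (op (Over.mk g)) m = res G g (φ m) :=
    fun {V} g m => ConcreteCategory.congr_hom
      (τ.naturality (Over.homMk g : Over.mk g ⟶ Over.mk (𝟙 P)).op) m
  refine ⟨φ, ⟨fun W _ hwc a m hne h0 => ?_, fun W _ hwc a y w => ?_⟩⟩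
  · have hS : Sieve.overEquiv _ (Presheaf.equalizerSieve (F := Pc) (X := op (Over.mk a)) m 0) ∈
        Scheme.ProEt.topology X W :=
      (GrothendieckTopology.mem_over_iff _ (Presheaf.equalizerSieve (F := Pc)
          (X := op (Over.mk a)) m 0)).1
        (Presheaf.equalizerSieve_mem J τ (X := op (Over.mk a)) m 0
          (((hφ a m).trans h0).trans (map_zero (τ.app (op (Over.mk a))).hom).symm))
    obtain ⟨n, V, g, -, hg, hu⟩ := Basic.exists_finite_refinement hS
    obtain ⟨w⟩ := hne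
    obtain ⟨k, -⟩ := Set.mem_iUnion.mp (hu.ge (Set.mem_univ w))
    exact (Sieve.overEquiv_iff _ _).1 (hg k)
  · have hS : Sieve.overEquiv _ (Presheaf.imageSieve τ (U := Over.mk a) y) ∈ Scheme.ProEt.topology X W :=
      (GrothendieckTopology.mem_over_iff _ _).1
        (Presheaf.imageSieve_mem J τ (U := op (Over.mk a)) y)
    obtain ⟨n, D, -, -, hu, hR⟩ := Decomp.exists_decomposition hwc hS
    obtain ⟨k, hk⟩ := Set.mem_iUnion.mp (hu.ge (Set.mem_univ w))
    obtain ⟨m, hm⟩ := (Sieve.overEquiv_iff _ _).1 (hR k)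
    exact ⟨D k, hk, m, hm.symm.trans (hφ (Decomp.incl W (D k) ≫ a) m)⟩

section Etale

open ProEt.EpsMod H88.EtMod Groth.Agent.Lib.EtSite.Basic

variable (F : EtModW.Mod Λ X) (E : X.Etale)

/-- The unit on sections. -/
abbrev ηM : F.obj.obj (op E) →ₗ[Λ] ((EtModW.epsPullMod Λ X).obj F).obj.obj (op ((ProEtS.eps X).obj E)) :=
  (((adjM Λ).unit.app F).hom.app (op E)).hom

/-- The underlying abelian sections. -/
abbrev θ (W : X.ProEtᵒᵖ) : AddCommGrpCat.of (((EtModW.epsPullMod Λ X).obj F).obj.obj W) ⟶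
    ((ProEtS.epsPull X).obj ((uE Λ).obj F)).obj.obj W :=
  ((ProEt.EpsMod.φ Λ).hom.app F).hom.app W

lemma aux {Hc : ProEtS.AbP X} (u₁ : F ⟶ ((ProEtS.eps X).sheafPushforwardContinuous (ModuleCat.{u + 1} Λ)
      X.smallEtaleTopology (Scheme.ProEt.topology X)).obj ((EtModW.epsPullMod Λ X).obj F))
    (t : (uP Λ).obj ((EtModW.epsPullMod Λ X).obj F) ⟶ Hc)
    (u₂ : (uE Λ).obj F ⟶ (ProEtS.epsPush X).obj Hc)
    (h : (uE Λ).map u₁ ≫ (ProEtS.epsPush X).map t = u₂) (x : F.obj.obj (op E)) :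
    t.hom.app (op ((ProEtS.eps X).obj E)) (u₁.hom.app (op E) x) = u₂.hom.app (op E) x := by
  subst h
  rfl

lemma θ_η (x : F.obj.obj (op E)) :
    θ F (op ((ProEtS.eps X).obj E)) (ηM F E x) = EpsUnit.η ((uE Λ).obj F) x :=
  aux F E ((adjM Λ).unit.app F) ((ProEt.EpsMod.φ Λ).hom.app F)
    ((ProEtS.epsAdj X).unit.app ((uE Λ).obj F)) (unit_compat Λ F) x

lemma aux_nat {Hc : ProEtS.AbP X} {N : EtModW.ModP Λ X} (t : (uP Λ).obj N ⟶ Hc) {W W' : X.ProEt}
    (a : W' ⟶ W) (y : N.obj.obj (op W)) :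
    t.hom.app (op W') (res N a y) = Hc.obj.map a.op (t.hom.app (op W) y) :=
  ConcreteCategory.congr_hom (t.hom.naturality a.op) y

/-- The underlying abelian sections, packaged. -/
theorem exists_θ : ∃ t : ∀ W : X.ProEt, ((EtModW.epsPullMod Λ X).obj F).obj.obj (op W) →+
      ProEtS.sectP (EpsUnit.G ((uE Λ).obj F)) W,
    (∀ W, Function.Injective (t W)) ∧
    (∀ {W W' : X.ProEt} (a : W' ⟶ W) (y : ((EtModW.epsPullMod Λ X).obj F).obj.obj (op W)),
      t W' (res _ a y) = (EpsUnit.G ((uE Λ).obj F)).obj.map a.op (t W y)) ∧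
    ∀ (E' : X.Etale) (x : F.obj.obj (op E')),
      t ((ProEtS.eps X).obj E') (ηM F E' x) = EpsUnit.η ((uE Λ).obj F) x := by
  refine ⟨fun W => (θ F (op W)).hom, fun W => ?_, fun {W W'} a y => ?_, fun E' x => θ_η F E' x⟩
  · haveI : IsIso (θ F (op W)) := ((evaluation _ _).obj (op W)).map_isIso
      ((sheafToPresheaf _ _).map ((ProEt.EpsMod.φ Λ).hom.app F))
    exact (ConcreteCategory.bijective_of_isIso (θ F (op W))).1
  · exact aux_nat ((ProEt.EpsMod.φ Λ).hom.app F) a y

/-- A chart on the etale site gives a chart of the pullback. -/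
theorem isChart_eps {φ : M →ₗ[Λ] F.obj.obj (op E)} (h : LCChart.IsChart F E φ) :
    IsChart ((EtModW.epsPullMod Λ X).obj F) (ηM F E ∘ₗ φ) := by
  haveI := Continuity.flat_eps X
  let A : EtCoh.Ab X := (uE Λ).obj F
  obtain ⟨θ, hθinj, hnat, hη⟩ := exists_θ F
  have hsec : ∀ {W : X.ProEt} {E' : X.Etale} (a : W ⟶ (ProEtS.eps X).obj E') (x : F.obj.obj (op E')),
      θ W (res _ a (ηM F E' x)) = EpsUnit.sec A a x := fun {W E'} a x =>
    (hnat a _).trans (congrArg ((EpsUnit.G A).obj.map a.op).hom (hη E' x))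
  refine ⟨fun W _ hwc a m hne h0 => ?_, fun W _ hwc a y w => ?_⟩
  · obtain ⟨r⟩ := hne
    have h1 : EpsUnit.sec A a (φ m) = 0 :=
      (hsec a (φ m)).symm.trans ((congrArg (θ W) h0).trans (map_zero _))
    obtain ⟨⟨E', g, hg⟩, e', -⟩ := Set.mem_iUnion.mp (EpsUnit.mem_zeroLocus A hwc (φ m) a h1 r)
    obtain ⟨p, -⟩ := exists_fiber_geomPoint E' e'
    refine (h _ _ ((Scheme.pointSmallEtale _).fiber.map g p)).1 ?_
    change LCChart.germ F E _ _ (φ m) = LCChart.germ F E _ _ (φ 0)
    rw [← LCChart.germ_map, map_zero φ, map_zero]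
    exact (congrArg (LCChart.germ F E' _ p) (hg : F.obj.map g.op (φ m) = 0)).trans (map_zero _)
  · obtain ⟨E₁, b, x, hx⟩ := AbPullback.exists_sec (ProEtS.eps X) A (EpsUnit.hasSums X) hwc
      (θ W y)
    let S₀ := IsCofiltered.min (StructuredArrow.mk b) (StructuredArrow.mk a)
    let h₁ : S₀.right ⟶ E₁ := (IsCofiltered.minToLeft (StructuredArrow.mk b) (StructuredArrow.mk a)).right
    let h₂ : S₀.right ⟶ E := (IsCofiltered.minToRight (StructuredArrow.mk b) (StructuredArrow.mk a)).right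
    have hb : S₀.hom ≫ (ProEtS.eps X).map h₁ = b :=
      StructuredArrow.w (IsCofiltered.minToLeft (StructuredArrow.mk b) (StructuredArrow.mk a))
    have ha : S₀.hom ≫ (ProEtS.eps X).map h₂ = a :=
      StructuredArrow.w (IsCofiltered.minToRight (StructuredArrow.mk b) (StructuredArrow.mk a))
    let x₁ : F.obj.obj (op E₁) := x
    let x₂ : F.obj.obj (op S₀.right) := F.obj.map h₁.op x₁
    let e : ↥S₀.right.left := S₀.hom.left.base w
    obtain ⟨p, hp⟩ := exists_fiber_geomPoint S₀.right e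
    obtain ⟨m, hm⟩ := ((h.restrict h₂) _ _ p).2 (LCChart.germ F S₀.right _ p x₂)
    obtain ⟨V, g, q, hq, hV⟩ := ((Scheme.pointSmallEtale _).toPresheafFiber_eq_iff' S₀.right p _ _).1 hm
    let O' : S₀.right.left.Opens := ⟨Set.range g.left.base, (EtSections.isOpenMap_left g).isOpen_range⟩
    let O : W.left.Opens := (S₀.hom.left : W.left ⟶ S₀.right.left) ⁻¹ᵁ O'
    have hwO : w ∈ O := ⟨fiberPt q, (fiberPt_map g q).symm.trans ((congrArg fiberPt hq).trans hp)⟩
    refine ⟨O, hwO, m, hθinj _ ?_⟩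
    obtain ⟨ψ, hψ⟩ := EpsUnit.exists_lift_piece O' (Decomp.incl W O ≫ S₀.hom) fun z => z.2
    let z₂ : F.obj.obj (op S₀.right) := F.obj.map h₂.op (φ m)
    have heq : A.obj.map (EtSections.incl S₀.right O').op x₂ = A.obj.map (EtSections.incl S₀.right O').op z₂ := by
      refine sub_eq_zero.mp ((map_sub (A.obj.map (EtSections.incl S₀.right O').op).hom x₂ z₂).symm.trans ?_)
      refine EtSections.map_eq_zero_of_range_subset A _ _ fun z => ?_
      have hg0 : A.obj.map g.op (x₂ - z₂) = 0 :=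
        (map_sub (A.obj.map g.op).hom x₂ z₂).trans (sub_eq_zero.mpr hV.symm)
      obtain ⟨v, hv⟩ := (z : O'.toScheme).2
      refine Eq.mp (congrArg (· ∈ EtSections.zeroLocus A _) ?_) (EtSections.range_subset_zeroLocus A _ g hg0 v)
      exact hv
    have e1 : EpsUnit.sec A (Decomp.incl W O ≫ S₀.hom) x₂ = EpsUnit.sec A (Decomp.incl W O ≫ S₀.hom) z₂ := by
      rw [← hψ]
      exact ((AbPullback.sec_map (ProEtS.eps X) A (EtSections.incl S₀.right O') ψ x₂).symm.trans
        (congrArg (AbPullback.sec (ProEtS.eps X) A ψ) heq)).trans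
        (AbPullback.sec_map (ProEtS.eps X) A (EtSections.incl S₀.right O') ψ z₂)
    have e2 : θ (Decomp.piece W O) (res _ (Decomp.incl W O) y) =
        EpsUnit.sec A (Decomp.incl W O ≫ b) x₁ := by
      refine (hnat (Decomp.incl W O) y).trans ?_
      refine (congrArg ((EpsUnit.G A).obj.map (Decomp.incl W O).op).hom hx.symm).trans ?_
      exact EpsUnit.map_map A b (Decomp.incl W O) (EpsUnit.η A x₁)
    refine e2.trans (Eq.trans ?_ (hsec (Decomp.incl W O ≫ a) (φ m)).symm)
    rw [← hb, ← ha, ← Category.assoc, ← Category.assoc]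
    exact ((AbPullback.sec_map (ProEtS.eps X) A h₁ (Decomp.incl W O ≫ S₀.hom) x₁).symm.trans e1).trans
      (AbPullback.sec_map (ProEtS.eps X) A h₂ (Decomp.incl W O ≫ S₀.hom) (φ m))

end Etale

end Groth.Agent.Lib.ProEtLC.Iso
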